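import Mathlib.Tactic.LinearCombination
import Mathlib.Tactic.Ring
import Mathlib.Tactic.FinCases
import Mathlib.Algebra.BigOperators.Fin

/-!
# Constants in the kernel of a skew `5 × 5` matrix and its Pfaffians
-/

set_option autoImplicit false
set_option linter.unusedSimpArgs false

namespace K783.EllAlg

variable {R : Type*} [CommRing R] (m : Fin 5 → Fin 5 → R)

/-- the `4 × 4` Pfaffians -/
def q : Fin 5 → R :=
  ![m 1 2 * m 3 4 - m 1 3 * m 2 4 + m 1 4 * m 2 3, m 0 2 * m 3 4 - m 0 3 * m 2 4 + m 0 4 * m 2 3,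
    m 0 1 * m 3 4 - m 0 3 * m 1 4 + m 0 4 * m 1 3, m 0 1 * m 2 4 - m 0 2 * m 1 4 + m 0 4 * m 1 2,
    m 0 1 * m 2 3 - m 0 2 * m 1 3 + m 0 3 * m 1 2]

/-- the signs -/
def sg : Fin 5 → R := ![1, -1, 1, -1, 1]

variable (hm : ∀ i j, m i j = - m j i) (h0 : ∀ i, m i i = 0)

include hm h0 in
/-- the linear syzygies of the Pfaffians -/
theorem syz (b : Fin 5) : ∑ a, sg a * m b a * q m a = 0 := by
  have h10 := hm 1 0
  have h20 := hm 2 0
  have h30 := hm 3 0
  have h40 := hm 4 0
  have h21 := hm 2 1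
  have h31 := hm 3 1
  have h41 := hm 4 1
  have h32 := hm 3 2
  have h42 := hm 4 2
  have h43 := hm 4 3
  simp only [Fin.sum_univ_five]
  fin_cases b <;>
  simp only [sg, q, Fin.isValue, Fin.mk_zero, Fin.mk_one, Fin.reduceFinMk, Fin.zero_eta, Matrix.cons_val_zero,
    Matrix.cons_val_one, Matrix.cons_val, h0, h10, h20, h30, h40, h21, h31, h41, h32, h42, h43] <;> ring

section

variable {m} {c : Fin 5 → R} (hc : ∀ b, ∑ a, sg a * c a * m b a = 0)

include hm h0 hc in
theorem rel_01 : c 0 * q m 1 = c 1 * q m 0 := by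
  have h10 := hm 1 0
  have h20 := hm 2 0
  have h30 := hm 3 0
  have h40 := hm 4 0
  have h21 := hm 2 1
  have h31 := hm 3 1
  have h41 := hm 4 1
  have h32 := hm 3 2
  have h42 := hm 4 2
  have h43 := hm 4 3
  have e1 := hc 2
  have e2 := hc 3
  have e3 := hc 4
  simp only [Fin.sum_univ_five, sg, q, Fin.isValue, Matrix.cons_val_zero,
    Matrix.cons_val_one, Matrix.cons_val, h0, h10, h20, h30, h40, h21, h31, h41, h32, h42, h43] at e1 e2 e3 ⊢
  linear_combination (-m 3 4) * e1 + m 2 4 * e2 - m 2 3 * e3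

include hm h0 hc in
theorem rel_02 : c 0 * q m 2 = c 2 * q m 0 := by
  have h10 := hm 1 0
  have h20 := hm 2 0
  have h30 := hm 3 0
  have h40 := hm 4 0
  have h21 := hm 2 1
  have h31 := hm 3 1
  have h41 := hm 4 1
  have h32 := hm 3 2
  have h42 := hm 4 2
  have h43 := hm 4 3
  have e1 := hc 1
  have e2 := hc 3
  have e3 := hc 4
  simp only [Fin.sum_univ_five, sg, q, Fin.isValue, Matrix.cons_val_zero,
    Matrix.cons_val_one, Matrix.cons_val, h0, h10, h20, h30, h40, h21, h31, h41, h32, h42, h43] at e1 e2 e3 ⊢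
  linear_combination (-m 3 4) * e1 + m 1 4 * e2 - m 1 3 * e3

include hm h0 hc in
theorem rel_03 : c 0 * q m 3 = c 3 * q m 0 := by
  have h10 := hm 1 0
  have h20 := hm 2 0
  have h30 := hm 3 0
  have h40 := hm 4 0
  have h21 := hm 2 1
  have h31 := hm 3 1
  have h41 := hm 4 1
  have h32 := hm 3 2
  have h42 := hm 4 2
  have h43 := hm 4 3
  have e1 := hc 1
  have e2 := hc 2
  have e3 := hc 4
  simp only [Fin.sum_univ_five, sg, q, Fin.isValue, Matrix.cons_val_zero,
    Matrix.cons_val_one, Matrix.cons_val, h0, h10, h20, h30, h40, h21, h31, h41, h32, h42, h43] at e1 e2 e3 ⊢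
  linear_combination (-m 2 4) * e1 + m 1 4 * e2 - m 1 2 * e3

include hm h0 hc in
theorem rel_04 : c 0 * q m 4 = c 4 * q m 0 := by
  have h10 := hm 1 0
  have h20 := hm 2 0
  have h30 := hm 3 0
  have h40 := hm 4 0
  have h21 := hm 2 1
  have h31 := hm 3 1
  have h41 := hm 4 1
  have h32 := hm 3 2
  have h42 := hm 4 2
  have h43 := hm 4 3
  have e1 := hc 1
  have e2 := hc 2
  have e3 := hc 3
  simp only [Fin.sum_univ_five, sg, q, Fin.isValue, Matrix.cons_val_zero,
    Matrix.cons_val_one, Matrix.cons_val, h0, h10, h20, h30, h40, h21, h31, h41, h32, h42, h43] at e1 e2 e3 ⊢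
  linear_combination (-m 2 3) * e1 + m 1 3 * e2 - m 1 2 * e3

include hm h0 hc in
theorem rel_12 : c 1 * q m 2 = c 2 * q m 1 := by
  have h10 := hm 1 0
  have h20 := hm 2 0
  have h30 := hm 3 0
  have h40 := hm 4 0
  have h21 := hm 2 1
  have h31 := hm 3 1
  have h41 := hm 4 1
  have h32 := hm 3 2
  have h42 := hm 4 2
  have h43 := hm 4 3
  have e1 := hc 0
  have e2 := hc 3
  have e3 := hc 4
  simp only [Fin.sum_univ_five, sg, q, Fin.isValue, Matrix.cons_val_zero,
    Matrix.cons_val_one, Matrix.cons_val, h0, h10, h20, h30, h40, h21, h31, h41, h32, h42, h43] at e1 e2 e3 ⊢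
  linear_combination (-m 3 4) * e1 + m 0 4 * e2 - m 0 3 * e3

include hm h0 hc in
theorem rel_13 : c 1 * q m 3 = c 3 * q m 1 := by
  have h10 := hm 1 0
  have h20 := hm 2 0
  have h30 := hm 3 0
  have h40 := hm 4 0
  have h21 := hm 2 1
  have h31 := hm 3 1
  have h41 := hm 4 1
  have h32 := hm 3 2
  have h42 := hm 4 2
  have h43 := hm 4 3
  have e1 := hc 0
  have e2 := hc 2
  have e3 := hc 4
  simp only [Fin.sum_univ_five, sg, q, Fin.isValue, Matrix.cons_val_zero,
    Matrix.cons_val_one, Matrix.cons_val, h0, h10, h20, h30, h40, h21, h31, h41, h32, h42, h43] at e1 e2 e3 ⊢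
  linear_combination (-m 2 4) * e1 + m 0 4 * e2 - m 0 2 * e3

include hm h0 hc in
theorem rel_14 : c 1 * q m 4 = c 4 * q m 1 := by
  have h10 := hm 1 0
  have h20 := hm 2 0
  have h30 := hm 3 0
  have h40 := hm 4 0
  have h21 := hm 2 1
  have h31 := hm 3 1
  have h41 := hm 4 1
  have h32 := hm 3 2
  have h42 := hm 4 2
  have h43 := hm 4 3
  have e1 := hc 0
  have e2 := hc 2
  have e3 := hc 3
  simp only [Fin.sum_univ_five, sg, q, Fin.isValue, Matrix.cons_val_zero,
    Matrix.cons_val_one, Matrix.cons_val, h0, h10, h20, h30, h40, h21, h31, h41, h32, h42, h43] at e1 e2 e3 ⊢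
  linear_combination (-m 2 3) * e1 + m 0 3 * e2 - m 0 2 * e3

include hm h0 hc in
theorem rel_23 : c 2 * q m 3 = c 3 * q m 2 := by
  have h10 := hm 1 0
  have h20 := hm 2 0
  have h30 := hm 3 0
  have h40 := hm 4 0
  have h21 := hm 2 1
  have h31 := hm 3 1
  have h41 := hm 4 1
  have h32 := hm 3 2
  have h42 := hm 4 2
  have h43 := hm 4 3
  have e1 := hc 0
  have e2 := hc 1
  have e3 := hc 4
  simp only [Fin.sum_univ_five, sg, q, Fin.isValue, Matrix.cons_val_zero,
    Matrix.cons_val_one, Matrix.cons_val, h0, h10, h20, h30, h40, h21, h31, h41, h32, h42, h43] at e1 e2 e3 ⊢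
  linear_combination (-m 1 4) * e1 + m 0 4 * e2 - m 0 1 * e3

include hm h0 hc in
theorem rel_24 : c 2 * q m 4 = c 4 * q m 2 := by
  have h10 := hm 1 0
  have h20 := hm 2 0
  have h30 := hm 3 0
  have h40 := hm 4 0
  have h21 := hm 2 1
  have h31 := hm 3 1
  have h41 := hm 4 1
  have h32 := hm 3 2
  have h42 := hm 4 2
  have h43 := hm 4 3
  have e1 := hc 0
  have e2 := hc 1
  have e3 := hc 3
  simp only [Fin.sum_univ_five, sg, q, Fin.isValue, Matrix.cons_val_zero,
    Matrix.cons_val_one, Matrix.cons_val, h0, h10, h20, h30, h40, h21, h31, h41, h32, h42, h43] at e1 e2 e3 ⊢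
  linear_combination (-m 1 3) * e1 + m 0 3 * e2 - m 0 1 * e3

include hm h0 hc in
theorem rel_34 : c 3 * q m 4 = c 4 * q m 3 := by
  have h10 := hm 1 0
  have h20 := hm 2 0
  have h30 := hm 3 0
  have h40 := hm 4 0
  have h21 := hm 2 1
  have h31 := hm 3 1
  have h41 := hm 4 1
  have h32 := hm 3 2
  have h42 := hm 4 2
  have h43 := hm 4 3
  have e1 := hc 0
  have e2 := hc 1
  have e3 := hc 2
  simp only [Fin.sum_univ_five, sg, q, Fin.isValue, Matrix.cons_val_zero,
    Matrix.cons_val_one, Matrix.cons_val, h0, h10, h20, h30, h40, h21, h31, h41, h32, h42, h43] at e1 e2 e3 ⊢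
  linear_combination (-m 1 2) * e1 + m 0 2 * e2 - m 0 1 * e3

include hm h0 hc in
theorem rel (a b : Fin 5) : c a * q m b = c b * q m a := by
  fin_cases a <;> fin_cases b <;>
  first
  | rfl
  | exact rel_01 hm h0 hc
  | exact (rel_01 hm h0 hc).symm
  | exact rel_02 hm h0 hc
  | exact (rel_02 hm h0 hc).symm
  | exact rel_03 hm h0 hc
  | exact (rel_03 hm h0 hc).symm
  | exact rel_04 hm h0 hc
  | exact (rel_04 hm h0 hc).symm
  | exact rel_12 hm h0 hc
  | exact (rel_12 hm h0 hc).symm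
  | exact rel_13 hm h0 hc
  | exact (rel_13 hm h0 hc).symm
  | exact rel_14 hm h0 hc
  | exact (rel_14 hm h0 hc).symm
  | exact rel_23 hm h0 hc
  | exact (rel_23 hm h0 hc).symm
  | exact rel_24 hm h0 hc
  | exact (rel_24 hm h0 hc).symm
  | exact rel_34 hm h0 hc
  | exact (rel_34 hm h0 hc).symm

end

end K783.EllAlg
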