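import Groth.Agent.Fano.K287.ConDeg
import Groth.Agent.VBCurve.K708.Deriv
import Groth.Agent.VarietyA.CurveFin

/-!
# The conormal bundle of an elliptic curve in a smooth cubic threefold: rank two, determinant `O(-2)`
-/

set_option autoImplicit false
universe u
open CategoryTheory CategoryTheory.Limits AlgebraicGeometry TopologicalSpace Opposite

namespace K783.EllDet

open Groth.Agent Groth.Agent.Fano.K714.Rat Groth.Agent.Grpsch.PicGrp Groth.Agent.Lefpen.H21.PicTwist

variable {k : Type u} [Field k] [IsAlgClosed k] (f : LefPen.Form 4 k 3) (hf : f ≠ 0)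
    [Smooth (ps f)] {C : Scheme.{u}} {p : C ⟶ Spec (CommRingCat.of k)} (i : C ⟶ Xf f) [IsClosedImmersion i]
    (hip : i ≫ ps f = p) (hsm : Smooth p) (hpr : IsProper p) (hint : IsIntegral C)
    (hdim : topologicalKrullDim C = 1)

include hsm hint hdim in
theorem relDim_one : SmoothOfRelativeDimension 1 p := by
  let : C.Over (Spec (CommRingCat.of k)) := ⟨p⟩
  have hs : Smooth (C ↘ Spec (CommRingCat.of k)) := hsm
  exact K457.Smooth.relDim_of_regular k C 1 hdim (fun x => S1535.result k C x)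

include hf hip hsm hint hdim in
theorem locFree_conormal : FlatMod.IsFinLocFreeOfRank 2 (Omega.conormal i) := by
  subst hip
  have hne : Nonempty (Xf f) := (inferInstance : Nonempty C).map i
  have h3 := Groth.Agent.Fano.K287.ConDeg.relDim_three f hf
  have h1 : SmoothOfRelativeDimension 1 (i ≫ ps f) := relDim_one hsm hint hdim
  exact K935.SmoothImm.isFinLocFreeOfRank_conormal i (ps f) (r := 2) (by norm_num)
    (Groth.Agent.Dual.H339.OmegaRank.isFinLocFreeOfRank_omega 3 (ps f))
    (Groth.Agent.Dual.H339.OmegaRank.isFinLocFreeOfRank_omega 1 (i ≫ ps f))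

include hf hip hsm hpr hint hdim in
/-- The determinant of the conormal bundle of an elliptic curve. -/
theorem nonempty_det (hg : @Curv2.genus k _ C ⟨p⟩ = 1) (L : C.Modules)
    (hL : ExtPow.IsExtPow 2 (Omega.conormal i) L) :
    Nonempty (L ≅ (Scheme.Modules.pullback (i ≫ emb f)).obj (Twist.twistProjSpace 4 k (-2))) := by
  subst hip
  have hne : Nonempty (Xf f) := (inferInstance : Nonempty C).map i
  have h3 := Groth.Agent.Fano.K287.ConDeg.relDim_three f hf
  have hC := locFree_conormal f hf i rfl hsm hint hdim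
  have h1 : SmoothOfRelativeDimension 1 (i ≫ ps f) := relDim_one hsm hint hdim
  have hP : IsProper (CohB1.ProjSpace.toSpec 4 k) := Groth.Agent.Ega3B.ProjProper.isProper_toSpec 4 k
  have hr3 := Groth.Agent.Dual.H339.OmegaRank.isFinLocFreeOfRank_omega 3 (ps f)
  have hr1 := Groth.Agent.Dual.H339.OmegaRank.isFinLocFreeOfRank_omega 1 (i ≫ ps f)
  obtain ⟨W, hW⟩ : ∃ D, ExtPow.IsExtPow 3 (Omega.sheaf (ps f)) D :=
    Groth.Agent.Dual.H366.ExtQCoh.exists_isExtPow 3
      (Groth.Agent.Ega2.QCohLocal.isQCoh_of_isFinLocFree (Groth.Agent.Krr.H487.KerRank.isFinLocFree_of_rank hr3))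
  have hWi := K287.OmegaPn.isInvertible_extPow hr3 hW
  have hLi := K287.OmegaPn.isInvertible_extPow hC hL
  have hw := K287.Hyp.mk_omega f (fun h => hf (Subtype.ext h)) 3 rfl hW hWi
  -- the canonical sheaf of the curve is trivial
  let : C.Over (Spec (CommRingCat.of k)) := ⟨i ≫ ps f⟩
  have hs' : Smooth (C ↘ Spec (CommRingCat.of k)) := hsm
  have hp' : IsProper (C ↘ Spec (CommRingCat.of k)) := hpr
  obtain ⟨eΩ⟩ := K708.Deriv.nonempty_omega_iso (k := k) (X := C) hdim (VarietyA.CurveFin.finrank_h0_structure k C) hg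
  obtain ⟨-, ⟨e⟩⟩ := Groth.Agent.S7772.result _ _ _ (ps f) (i ≫ ps f) 3 1 (by norm_num) i rfl
    W hW (Omega.sheaf (i ≫ ps f)) (Sga67.TensorOps.isExtPow_one _) L hL
  have hVi : PicF.IsInvertible (Omega.sheaf (i ≫ ps f)) :=
    K287.Hyp.isInvertible_of_iso' eΩ.symm Fdesc.LocGen.isInvertible_structureModule
  have hv : mk (Omega.sheaf (i ≫ ps f)) hVi = 1 := by
    rw [one_def, mk_eq_iff]
    exact ⟨eΩ⟩
  have h4 : pull i (mk W hWi) = mk (Omega.sheaf (i ≫ ps f)) hVi * mk L hLi := by
    rw [pull_mk, mk_mul_mk]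
    exact mk_congr e
  rw [hw, hv, one_mul, map_zpow, hyp, ← pull_comp] at h4
  have h5 := mk_pullback_twist (i ≫ emb f) (-2)
  rw [← mk_eq_iff hLi (isInvertible_pullback_twist (i ≫ emb f) (-2)), ← h4, h5]
  norm_num
  rfl

end K783.EllDet
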