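import Groth.Agent.Fano.K560.ConLift
import Groth.Agent.SDiv.K474.ConShort
import Groth.Agent.ASBun.K792.EndLine
import Groth.Agent.Lefpen.H705.PointCoord

/-!
# Maps from the conormal module to `O(-d)` and linear syzygies

`j : C ⟶ P^n` with ideal generated by forms `G_a` of degree `d`: a map `θ : conormal j ⟶ j^* O(-d)` is given by
constants `c_a` with `∑ c_a N_a = 0` on `C` for every linear syzygy `∑ N_a G_a = 0`.
-/

set_option autoImplicit false

universe u

open CategoryTheory CategoryTheory.Limits AlgebraicGeometry TopologicalSpace Opposite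

namespace K783.SyzHom

open LefPen K715.Geo K715.Gens K715.Res K715.SumSec K715.Pair K715.CIConormal K560.FormMaps
open Groth.Agent Groth.Agent.Lefpen.H705.HypIdeal Groth.Agent.Lefpen.H705.ChartPoly
open Groth.Agent.Fdesc.LocGen

variable {n t : ℕ} {k : Type u} [Field k]

/-- The equations generate the ideal module. -/
theorem exists_gen {φ : Fin t → ℕ} (G : ∀ i : Fin t, Form n k (φ i)) {C : Scheme.{u}}
    (j : C ⟶ CohB1.ProjSpace n k) [QuasiCompact j] (hj : j.ker = ciIdeal G) :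
    ∃ l : (∐ fun i : Fin t => OO n k (-(φ i : ℤ))) ⟶ ClSub.idealMod j.ker, Epi l ∧
      l ≫ ClSub.idealModι j.ker = co G := by
  have hker : ∀ U : (CohB1.ProjSpace n k).affineOpens,
      j.ker.ideal U = Groth.Agent.Krr.H478.ImIdeal.rg (co G) U.1 := by
    intro U
    rw [hj]
    exact ideal_eq_rg G U
  exact Groth.Agent.Krr.H478.ImIdeal.exists_factor (co G) j.ker hker

/-- Constants on opens of a chart. -/
theorem rho_C (m : Fin (n + 1)) {U : (CohB1.ProjSpace n k).Opens} (hU : U ≤ chart n k m) (c : k) :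
    rho m hU (MvPolynomial.C c) =
      ores (le_top : U ≤ ⊤)
        ((CohB1.ProjSpace.toSpec n k).appTop.hom ((Scheme.ΓSpecIso (CommRingCat.of k)).inv.hom c)) := by
  rw [rho, RingHom.comp_apply, RingHom.comp_apply, Sga5.ProjChart.dehom_C, Lefpen.H705.PointCoord.polyToChart_C,
    Scheme.Hom.appLE]
  change (CohB1.ProjSpace n k).presheaf.map _ ((CohB1.ProjSpace n k).presheaf.map _ _) = _
  rw [← ConcreteCategory.comp_apply, ← Functor.map_comp]
  rfl

variable {C : Scheme.{u}} (j : C ⟶ CohB1.ProjSpace n k)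

theorem app_rho_C (m : Fin (n + 1)) {U : (CohB1.ProjSpace n k).Opens} (hU : U ≤ chart n k m) (c : k)
    (p : C ⟶ Spec (CommRingCat.of k)) (hp : j ≫ CohB1.ProjSpace.toSpec n k = p) :
    (j.app U).hom (rho m hU (MvPolynomial.C c)) =
      ores (le_top : j ⁻¹ᵁ U ≤ ⊤) (p.appTop.hom ((Scheme.ΓSpecIso (CommRingCat.of k)).inv.hom c)) := by
  subst hp
  rw [rho_C, Scheme.Hom.comp_appTop]
  exact congr($(j.naturality (homOfLE (le_top : U ≤ ⊤)).op).hom _)

theorem mulO_zero {d : ℕ} (G : Form n k d) (hG : G.1 = 0) (a : ℤ) (h : 0 = a + d) : mulO G a h = 0 := by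
  refine hom_ext_eg fun m U hU => ?_
  rw [mulO_eg1, hG, map_zero]
  rfl

variable {d : ℕ}

/-- The value of a section under a multiple of the identity. -/
theorem exists_const [IsAlgClosed k] [IsIntegral C] (p : C ⟶ Spec (CommRingCat.of k))
    (hp : j ≫ CohB1.ProjSpace.toSpec n k = p) [IsProper p] {a : ℤ}
    (ψ : (Scheme.Modules.pullback j).obj (OO n k a) ⟶ (Scheme.Modules.pullback j).obj (OO n k a)) :
    ∃ c : k, (c = 0 → ψ = 0) ∧ ∀ (m : Fin (n + 1)) (U : (CohB1.ProjSpace n k).Opens) (hU : U ≤ chart n k m)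
      (s : Γ(OO n k a, U)),
      ψ.app (j ⁻¹ᵁ U) (pullSec j s) = (j.app U).hom (rho m hU (MvPolynomial.C c)) • pullSec j s := by
  have hinv : PicF.IsInvertible ((Scheme.Modules.pullback j).obj (OO n k a)) :=
    isInvertible_pullback j (Ega3B.ProjFrame.isInvertible_twistProjSpace n k a)
  obtain ⟨r, rfl⟩ := K792.EndLine.exists_eq_smul hinv ψ
  obtain ⟨c, rfl⟩ := K792.EndLine.exists_const k p r
  refine ⟨c, ?_, fun m U hU s => ?_⟩
  · rintro rfl
    rw [map_zero, map_zero]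
    exact FormalB.ModPow.smulModΓ_zero _
  · rw [app_rho_C j m hU c p hp]
    rfl

/-- **Maps from the conormal module to `O(-d)`.** -/
theorem main [QuasiCompact j] [IsAlgClosed k] [IsIntegral C] (p : C ⟶ Spec (CommRingCat.of k))
    (hp : j ≫ CohB1.ProjSpace.toSpec n k = p) [IsProper p] (G : ∀ _ : Fin t, Form n k d) (hj : j.ker = ciIdeal G)
    (θ : Omega.conormal j ⟶ (Scheme.Modules.pullback j).obj (OO n k (-(d : ℤ)))) :
    ∃ c : Fin t → k, (c = 0 → θ = 0) ∧ ∀ N : Fin t → Form n k 1, (∑ a, (N a).1 * (G a).1 = 0) →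
      ∀ (m : Fin (n + 1)), (j.app (chart n k m)).hom (rho m le_rfl (∑ a, MvPolynomial.C (c a) * (N a).1)) = 0 := by
  obtain ⟨l, hl, hl'⟩ := exists_gen G j hj
  let adj := Scheme.Modules.pullbackPushforwardAdjunction j
  let la : ∀ a : Fin t, OO n k (-(d : ℤ)) ⟶ ClSub.idealMod j.ker := fun a =>
    Sigma.ι (fun _ : Fin t => OO n k (-(d : ℤ))) a ≫ l
  have hla : ∀ a, la a ≫ ClSub.idealModι j.ker = mulO (G a) (-(d : ℤ)) (by omega) := by
    intro a
    rw [Category.assoc, hl']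
    exact Sigma.ι_desc (fun i : Fin t => mulO (G i) (-(d : ℤ)) (by omega)) a
  choose c hc hc' using fun a => exists_const j p hp ((Scheme.Modules.pullback j).map (la a) ≫ θ)
  have hval : ∀ (a : Fin t) (m : Fin (n + 1)) (U : (CohB1.ProjSpace n k).Opens) (hU : U ≤ chart n k m)
      (s : Γ(OO n k (-(d : ℤ)), U)), θ.app (j ⁻¹ᵁ U) (pullSec j ((la a).app U s)) =
        (j.app U).hom (rho m hU (MvPolynomial.C (c a))) • pullSec j s := by
    intro a m U hU s
    rw [← hc' a m U hU s, ← pullback_map_pullSec]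
    rfl
  refine ⟨c, ?_, ?_⟩
  · intro h0
    have h1 : l ≫ adj.homEquiv _ _ θ = 0 := by
      refine Sigma.hom_ext _ _ fun a => ?_
      rw [comp_zero, ← Category.assoc]
      change la a ≫ _ = 0
      rw [← adj.homEquiv_naturality_left, hc a (congrFun h0 a), adj.homEquiv_unit, Functor.map_zero, comp_zero]
    have h2 : adj.homEquiv _ _ θ = 0 := by
      rw [← cancel_epi l, h1, comp_zero]
    apply (adj.homEquiv _ _).injective
    have h3 : adj.homEquiv (ClSub.idealMod j.ker) ((Scheme.Modules.pullback j).obj (OO n k (-(d : ℤ)))) 0 = 0 := by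
      rw [adj.homEquiv_unit, Functor.map_zero, comp_zero]
    exact h2.trans h3.symm
  · intro N hN m
    have hU : chart n k m ≤ chart n k m := le_rfl
    -- the syzygy
    have h1 : ∑ a, mulF (N a) (-((1 + d : ℕ) : ℤ)) (-(d : ℤ)) (by push_cast; ring) ≫ la a = 0 := by
      rw [← cancel_mono (ClSub.idealModι j.ker), Preadditive.sum_comp, zero_comp]
      have h2 := sum_mulF_mulO N G (D := 1 + d) (0 : Form n k (1 + d)) (by rw [hN]; rfl)
        (a := -((1 + d : ℕ) : ℤ)) (fun _ => -(d : ℤ)) (fun _ => by push_cast; ring) (fun _ => by ring) (by ring)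
      rw [mulO_zero _ rfl] at h2
      refine Eq.trans (Finset.sum_congr rfl fun a _ => ?_) h2
      rw [Category.assoc, hla a]
    have h3 : ∑ a, (mulF (N a) (-((1 + d : ℕ) : ℤ)) (-(d : ℤ)) (by push_cast; ring) ≫ la a).app (chart n k m)
        (eg m (-((1 + d : ℕ) : ℤ)) hU) = 0 := by
      rw [← sum_app, h1]
      rfl
    have h4 : ∀ a, (mulF (N a) (-((1 + d : ℕ) : ℤ)) (-(d : ℤ)) (by push_cast; ring) ≫ la a).app (chart n k m)
        (eg m (-((1 + d : ℕ) : ℤ)) hU) = (la a).app (chart n k m) (rho m hU (N a).1 • eg m (-(d : ℤ)) hU) := by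
      intro a
      rw [← mulF_eg (N a) (-((1 + d : ℕ) : ℤ)) (-(d : ℤ)) (by push_cast; ring) m hU]
      rfl
    have h5 : ∑ a, θ.app (j ⁻¹ᵁ (chart n k m)) (pullSec j ((la a).app (chart n k m)
        (rho m hU (N a).1 • eg m (-(d : ℤ)) hU))) = 0 := by
      have h6 := congrArg ((adj.homEquiv (ClSub.idealMod j.ker) _ θ).app (chart n k m)) h3
      rw [map_sum, map_zero] at h6
      refine Eq.trans (Finset.sum_congr rfl fun a _ => ?_) h6
      rw [h4 a]
      exact (homEquiv_app j θ _).symm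
    have h6 : ∀ a, θ.app (j ⁻¹ᵁ (chart n k m)) (pullSec j ((la a).app (chart n k m)
        (rho m hU (N a).1 • eg m (-(d : ℤ)) hU))) =
        (j.app (chart n k m)).hom (rho m hU (MvPolynomial.C (c a) * (N a).1)) • pullSec j (eg m (-(d : ℤ)) hU) := by
      intro a
      rw [hval a m _ hU, pullSec_smul, smul_smul, map_mul, map_mul]
    rw [Finset.sum_congr rfl fun a _ => h6 a, ← Finset.sum_smul, ← map_sum, ← map_sum] at h5
    exact ((isGen_eg m (-(d : ℤ)) hU).pullSec j).ext (h5.trans (zero_smul _ _).symm)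

/-- A form vanishing on the charts vanishes. -/
theorem hypIdeal_le [QuasiCompact j] {e : ℕ} (L : Form n k e)
    (h : ∀ m : Fin (n + 1), (j.app (chart n k m)).hom (rho m le_rfl L.1) = 0) : hypIdeal L ≤ j.ker := by
  refine Scheme.IdealSheafData.le_of_iSup_eq_top
    (fun m : Fin (n + 1) => (⟨chart n k m, isAffineOpen_chart m⟩ : (CohB1.ProjSpace n k).affineOpens))
    iSup_chart fun m => ?_
  rw [ideal_hyp m _ le_rfl, Ideal.span_singleton_le_iff_mem, Scheme.Hom.ker_apply, RingHom.mem_ker]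
  exact h m

/-- The same for `C ⊂ X ⊂ P^n`. -/
theorem main' {X : Scheme.{u}} (i : C ⟶ X) (e : X ⟶ CohB1.ProjSpace n k) [QuasiCompact i] [QuasiCompact e]
    [IsPreimmersion i] [IsPreimmersion e] (hi : i ≫ e = j)
    [IsAlgClosed k] [IsIntegral C] (p : C ⟶ Spec (CommRingCat.of k))
    (hp : j ≫ CohB1.ProjSpace.toSpec n k = p) [IsProper p] (G : ∀ _ : Fin t, Form n k d) (hj : j.ker = ciIdeal G)
    (θ : Omega.conormal i ⟶ (Scheme.Modules.pullback j).obj (OO n k (-(d : ℤ)))) :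
    ∃ c : Fin t → k, (c = 0 → θ = 0) ∧ ∀ (N : Fin t → Form n k 1), (∑ a, (N a).1 * (G a).1 = 0) →
      hypIdeal (∑ a, c a • N a) ≤ j.ker := by
  subst hi
  have w1 : (i ≫ e) ≫ 𝟙 _ = i ≫ e := Category.comp_id _
  have w2 : i ≫ e = 𝟙 _ ≫ (i ≫ e) := (Category.id_comp _).symm
  obtain ⟨φ₁, ha⟩ : ∃ φ₁, OmegaSh.IsConormalMap (i ≫ e) e (𝟙 _) i φ₁ := ⟨_, K583.ConMap.isConormalMap w1⟩
  obtain ⟨φ₂, hb⟩ : ∃ φ₂, OmegaSh.IsConormalMap i (i ≫ e) e (𝟙 _) φ₂ := ⟨_, K583.ConMap.isConormalMap w2⟩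
  have hE := (K559.ConSeq.exact_epi ha hb).2
  obtain ⟨c, hc, hc'⟩ := main (i ≫ e) p hp G hj (((Scheme.Modules.pullbackId C).inv.app
      (Omega.conormal (i ≫ e)) ≫ φ₂) ≫ θ)
  refine ⟨c, fun h => ?_, fun N hN => hypIdeal_le _ _ fun m => ?_⟩
  · have h1 := hc h
    rw [← cancel_epi ((Scheme.Modules.pullbackId C).inv.app (Omega.conormal (i ≫ e)) ≫ φ₂), h1, comp_zero]
  · have h1 := hc' N hN m
    have h2 : (∑ a, c a • N a : Form n k 1).1 = ∑ a, MvPolynomial.C (c a) * (N a).1 := by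
      rw [AddSubmonoidClass.coe_finset_sum]
      refine Finset.sum_congr rfl fun a _ => ?_
      rw [← MvPolynomial.smul_eq_C_mul]
      rfl
    rw [h2]
    exact h1

end K783.SyzHom
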