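import Groth.Agent.VBCurve.K876.MukM0
import Groth.Agent.Ega3B.SectExact

/-!
# Sections of a rank two bundle without maps to its determinant

* `exists_hom`: `s ∧ - : E ⟶ Λ²E`;
* `subsingleton_HH`: `Hom(E, Λ²E) = 0` implies `H⁰(E) = 0`.
-/

set_option autoImplicit false
universe u

open CategoryTheory CategoryTheory.Limits AlgebraicGeometry Opposite TopologicalSpace
open Groth.Agent.Fdesc.LocGen
open Groth.Agent

namespace K783.WedgeH0

open K704.Muk

variable {Y : Scheme.{u}} {E D : Y.Modules}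

theorem exists_hom (β : Wdg E D) (s : Γ(E, ⊤)) :
    ∃ θ : E ⟶ D, ∀ (U : Y.Opens) (y : Γ(E, U)), θ.app U y = β.b U y (res E le_top s) := by
  obtain ⟨f, hf⟩ := Sga67.Sec.exists_hom_of_basis' (B := fun U : Y.Opens => U)
    (by rw [Set.range_id']; exact Opens.isBasis_iff_nbhd.mpr (fun {U x} hx => ⟨U, trivial, hx, le_rfl⟩))
    E D
    (fun V => { toFun := fun y => β.b V y (res E le_top s)
                map_add' := fun a b => β.add V a b _
                map_smul' := fun r a => β.smul V r a _ })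
    (by
      intro U V h a
      refine Eq.trans ?_ (β.res h a _).symm
      rw [res_res]
      rfl)
  exact ⟨f, fun U y => hf U y⟩

theorem eq_zero (hE : FlatMod.IsFinLocFreeOfRank 2 E) (β : Wdg E D)
    (hβ : ∀ (U : Y.Opens) (e : Fin 2 → Γ(E, U)), IsBas e → IsGen (β.b U (e 0) (e 1)))
    (h : ∀ θ : E ⟶ D, θ = 0) (s : Γ(E, ⊤)) : s = 0 := by
  obtain ⟨θ, hθ⟩ := exists_hom β s
  have h1 : ∀ (U : Y.Opens) (y : Γ(E, U)), β.b U y (res E le_top s) = 0 := by
    intro U y
    rw [← hθ U y, h θ]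
    rfl
  refine Sga67.Sec.eq_of_locally E (s := s) (t := 0) fun x _ => ?_
  obtain ⟨U, hx, he⟩ := hE x
  obtain ⟨e₀, he⟩ := Sga67.LocBasis.nonempty_restrict_iso_iff.mp he
  obtain ⟨e, he'⟩ : ∃ e : Fin 2 → Γ(E, U), IsBas e := ⟨e₀, fun V h => he V h⟩
  refine ⟨U, le_top, hx, ?_⟩
  obtain ⟨a, ha⟩ := (he' U le_rfl).2 (res E le_top s)
  have ha' : res E le_top s = a 0 • e 0 + a 1 • e 1 := by
    rw [← ha]
    change ∑ i, a i • res E (le_refl U) (e i) = _
    rw [Fin.sum_univ_two]
    have h7 : ∀ y : Γ(E, U), res E (le_refl U) y = y := fun y => Sga67.Sec.res_self E le_rfl y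
    rw [h7, h7]
  have hg := hβ U e he'
  have h2 : β.b U (e 0) (res E le_top s) = a 1 • β.b U (e 0) (e 1) := by
    rw [ha', β.add_right, β.smul_right, β.smul_right, β.self, smul_zero, zero_add]
  have h3 : β.b U (e 1) (res E le_top s) = - a 0 • β.b U (e 0) (e 1) := by
    rw [ha', β.add_right, β.smul_right, β.smul_right, β.self, smul_zero, add_zero, β.swap, smul_neg, neg_smul]
  rw [h1] at h2 h3
  have h4 : a 1 = 0 := isGen_smul_left_inj hg h2.symm
  have h5 : a 0 = 0 := neg_eq_zero.mp (isGen_smul_left_inj hg h3.symm)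
  have h6 : res E (le_top : U ≤ ⊤) s = 0 := by rw [ha', h4, h5, zero_smul, zero_smul, add_zero]
  have h8 : res E (le_top : U ≤ ⊤) (0 : Γ(E, ⊤)) = 0 := map_zero _
  exact h6.trans h8.symm

/-- A rank two bundle without nonzero maps to its determinant has no sections. -/
theorem subsingleton_HH (hE : FlatMod.IsFinLocFreeOfRank 2 E) (hD : ExtPow.IsExtPow 2 E D)
    (h : ∀ θ : E ⟶ D, θ = 0) : Subsingleton (Coh.HH Y E 0) := by
  obtain ⟨β, hβ⟩ := exists_wdg hE hD
  refine ⟨fun a b => (Ega3B.SectExact.secEquiv E).injective ?_⟩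
  exact (eq_zero hE β hβ h _).trans (eq_zero hE β hβ h _).symm

end K783.WedgeH0
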