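import Groth.Agent.Fano.K255.PfDef
import Groth.Agent.Fano.K783.WedgeH0
import Groth.Agent.Fano.K783.SyzHom
import Groth.Agent.Fano.K783.EllAlg
import Groth.Agent.Fano.K783.EllDet
import Groth.Agent.Fano.K560.QuartAlg

/-!
# The conormal sheaf of a nondegenerate elliptic quintic on a cubic threefold has no sections
-/

set_option autoImplicit false
universe u
open CategoryTheory CategoryTheory.Limits AlgebraicGeometry TopologicalSpace Opposite

namespace K783.ConNd

open LefPen Groth.Agent Groth.Agent.Fano.K714.Rat Groth.Agent.Fano.K714.Quart Groth.Agent.Fano.K715.Quint K255.Pf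

variable {k : Type u} [Field k]

/-- the block of the first five rows -/
noncomputable def mm (M : DataE k) (a b : Fin 5) : MvPolynomial (Fin 5) k := matE M a.castSucc b.castSucc

theorem qE_eq (M : DataE k) (a : Fin 5) : (qE M a).1 = EllAlg.q (mm M) a := by
  fin_cases a <;> rfl

theorem lin_neg (v : Fin 5 → k) : (lin (-v)).1 = - (lin v).1 := by
  have h : lin (-v) = - lin v := map_neg (K560.QuartAlg.linL (k := k)) v
  rw [h]
  rfl

theorem mm_skew {M : DataE k} (hM : ∀ i j, M i j = - M j i) (a b : Fin 5) : mm M a b = - mm M b a := by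
  unfold mm matE
  rw [hM a.castSucc b.castSucc, lin_neg]

theorem mm_self [CharZero k] {M : DataE k} (hM : ∀ i j, M i j = - M j i) (a : Fin 5) : mm M a a = 0 := by
  have h := mm_skew hM a a
  have h2 : (2 : MvPolynomial (Fin 5) k) * mm M a a = 0 := by linear_combination h
  exact (mul_eq_zero.1 h2).resolve_left (by exact_mod_cast (two_ne_zero : (2 : ℕ) ≠ 0))

/-- the sign as a constant -/
def sgk : Fin 5 → k := ![1, -1, 1, -1, 1]

theorem sgk_eq (a : Fin 5) : MvPolynomial.C (sgk a : k) = (EllAlg.sg a : MvPolynomial (Fin 5) k) := by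
  fin_cases a <;> simp [sgk, EllAlg.sg]

/-- the syzygies -/
noncomputable def NN (M : DataE k) (b a : Fin 5) : Form 4 k 1 := (sgk a : k) • lin (M b.castSucc a.castSucc)

theorem NN_val (M : DataE k) (b a : Fin 5) : (NN M b a).1 = EllAlg.sg a * mm M b a := by
  rw [← sgk_eq, ← MvPolynomial.smul_eq_C_mul]
  rfl

theorem syz [CharZero k] {M : DataE k} (hM : ∀ i j, M i j = - M j i) (b : Fin 5) :
    ∑ a, (NN M b a).1 * (qE M a).1 = 0 := by
  simp only [NN_val, qE_eq]
  exact EllAlg.syz (mm M) (mm_skew hM) (mm_self hM) b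

theorem pf6_eq (M : DataE k) : pf6 (matE M) = matE M 0 5 * (qE M 0).1 - matE M 1 5 * (qE M 1).1 +
    matE M 2 5 * (qE M 2).1 - matE M 3 5 * (qE M 3).1 + matE M 4 5 * (qE M 4).1 := rfl

/-- Constants in the kernel of the matrix: the quadrics are proportional. -/
theorem smul_qE [CharZero k] {M : DataE k} (hM : ∀ i j, M i j = - M j i) (c : Fin 5 → k)
    (hc : ∀ b, (∑ a, c a • NN M b a : Form 4 k 1) = 0) (a b : Fin 5) : c a • qE M b = c b • qE M a := by
  apply Subtype.ext
  have h := EllAlg.rel (m := mm M) (c := fun a => MvPolynomial.C (c a)) (mm_skew hM) (mm_self hM) (fun b => ?_) a b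
  · rw [← qE_eq, ← qE_eq, ← MvPolynomial.smul_eq_C_mul, ← MvPolynomial.smul_eq_C_mul] at h
    exact h
  · have h1 := congrArg Subtype.val (hc b)
    rw [AddSubmonoidClass.coe_finsetSum] at h1
    refine Eq.trans (Finset.sum_congr rfl fun a _ => ?_) h1
    have h2 : (c a • NN M b a : Form 4 k 1).1 = MvPolynomial.C (c a) * (NN M b a).1 := by
      rw [← MvPolynomial.smul_eq_C_mul]
      rfl
    rw [h2, NN_val]
    ring

theorem hypIdeal_smul_le {d : ℕ} (c : k) (G : Form 4 k d) : hypIdeal (c • G) ≤ hypIdeal G := by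
  refine Scheme.IdealSheafData.le_of_iSup_eq_top
    (fun m : Fin (4 + 1) => (⟨chart 4 k m, Lefpen.H705.HypIdeal.isAffineOpen_chart m⟩ :
      (CohB1.ProjSpace 4 k).affineOpens)) Lefpen.H705.HypIdeal.iSup_chart fun m => ?_
  rw [K715.Geo.ideal_hyp m _ le_rfl, K715.Geo.ideal_hyp m _ le_rfl, Ideal.span_singleton_le_iff_mem]
  have h : (c • G).1 = MvPolynomial.C c * G.1 := by
    rw [← MvPolynomial.smul_eq_C_mul]
    rfl
  rw [h, map_mul]
  exact Ideal.mul_mem_left _ _ (Ideal.subset_span rfl)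

theorem dim_hyp {d : ℕ} (Q : Form 4 k d) (hQ : Q.1 ≠ 0) [Nonempty (hypIdeal Q).subscheme] :
    topologicalKrullDim (hypIdeal Q).subscheme = 3 := by
  have h1 : ciIdeal (fun _ : Fin 1 => Q) = hypIdeal Q := by rw [ciIdeal, iSup_unique]
  have key : ∀ I : (CohB1.ProjSpace 4 k).IdealSheafData, ciIdeal (fun _ : Fin 1 => Q) = I →
      Nonempty I.subscheme → topologicalKrullDim I.subscheme = 3 := by
    rintro I rfl hne
    exact Coherent.K51.CIDim.dim_eq_of_isReg (Fano.K287.ConDeg.isReg_one Q hQ)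
  exact key _ h1 inferInstance

theorem dim_ker {C Y : Scheme.{u}} (j : C ⟶ Y) [IsClosedImmersion j] (I : Y.IdealSheafData) (h : j.ker = I) :
    topologicalKrullDim I.subscheme = topologicalKrullDim C ∧ (Nonempty C → Nonempty I.subscheme) := by
  subst h
  have h1 : IsIso j.toImage := inferInstance
  exact ⟨(IsHomeomorph.topologicalKrullDim_eq _ j.toImage.homeomorph.isHomeomorph).symm, fun h => h.map j.toImage⟩

variable [IsAlgClosed k] [CharZero k]

theorem conormal_nondeg (f : LefPen.Form 4 k 3) (hf : f ≠ 0) [Smooth (ps f)]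
    (C : Scheme.{u}) (p : C ⟶ Spec (CommRingCat.of k)) (i : C ⟶ Xf f) (hcl : IsClosedImmersion i)
    (hip : i ≫ ps f = p) (hsm : Smooth p) (hpr : IsProper p) (hint : IsIntegral C)
    (hdim : topologicalKrullDim C = 1) (hg : @Curv2.genus k _ C ⟨p⟩ = 1)
    (M : DataE k) (hM : M ∈ PP f.1) (hker : (i ≫ emb f).ker = cE M) (hnd : NonDeg (i ≫ emb f).ker) :
    Subsingleton (Coh.HH C (Omega.conormal i) 0) := by
  have hE := EllDet.locFree_conormal f hf i hip hsm hint hdim
  obtain ⟨L, hL⟩ : ∃ D, ExtPow.IsExtPow 2 (Omega.conormal i) D :=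
    Groth.Agent.Dual.H366.ExtQCoh.exists_isExtPow 2
      (Groth.Agent.Ega2.QCohLocal.isQCoh_of_isFinLocFree (Groth.Agent.Krr.H487.KerRank.isFinLocFree_of_rank hE))
  obtain ⟨e⟩ := EllDet.nonempty_det f hf i hip hsm hpr hint hdim hg L hL
  refine WedgeH0.subsingleton_HH hE hL fun θ => ?_
  have hj : (i ≫ emb f).ker = ciIdeal (qE M) := hker
  have hp : (i ≫ emb f) ≫ CohB1.ProjSpace.toSpec 4 k = p := by rw [← hip, Category.assoc]
  obtain ⟨c, hc, hc'⟩ := SyzHom.main' (i ≫ emb f) i (emb f) rfl p hp (qE M) hj (θ ≫ e.hom)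
  have hc'' : ∀ b, (∑ a, c a • NN M b a : Form 4 k 1) = 0 := by
    intro b
    by_contra h
    exact hnd _ h (hc' (NN M b) (syz hM.1 b))
  have h0 : c = 0 := by
    by_contra hne
    obtain ⟨a₀, ha₀⟩ : ∃ a, c a ≠ 0 := by
      by_contra h
      push Not at h
      exact hne (funext h)
    have hq : ∀ b, qE M b = (c b / c a₀) • qE M a₀ := by
      intro b
      rw [div_eq_inv_mul, mul_smul, ← smul_qE hM.1 c hc'' a₀ b, smul_smul, inv_mul_cancel₀ ha₀, one_smul]
    have h1 : (i ≫ emb f).ker = hypIdeal (qE M a₀) := by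
      rw [hj]
      refine le_antisymm (iSup_le fun b => ?_) (le_iSup (fun b => hypIdeal (qE M b)) a₀)
      rw [hq b]
      exact hypIdeal_smul_le _ _
    by_cases hQ : (qE M a₀).1 = 0
    · have h2 : ∀ b, (qE M b).1 = 0 := by
        intro b
        rw [hq b]
        change (c b / c a₀) • (qE M a₀).1 = 0
        rw [hQ, smul_zero]
      have h3 : f.1 = 0 := by
        rw [← hM.2, pf6_eq, h2, h2, h2, h2, h2]
        ring
      exact hf (Subtype.ext h3)
    · have h2 := dim_ker (i ≫ emb f) _ h1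
      have h3 : Nonempty (hypIdeal (qE M a₀)).subscheme := h2.2 inferInstance
      have h4 := (dim_hyp _ hQ).symm.trans (h2.1.trans hdim)
      norm_num at h4
  have h1 := hc h0
  rw [← cancel_mono e.hom, h1, zero_comp]

end K783.ConNd
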