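import Groth.Agent.Fano.K783.ThetaAll
import Groth.Agent.Fano.K554.ConDeg
import Groth.Agent.Fano.K560.EllReg

/-!
# Degenerate elliptic quintics on a cubic threefold are limits of nondegenerate ones (G8 of S16528)

`exists_nondeg` is `K255.PlanE.exists_nondeg`, from the bound (W) for the vanishing orders of the section given by the
linear form (`WStmt`) and the existence of a nonlinear section of the normal sheaf (`NonLinStmt`).
-/

set_option autoImplicit false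

universe u

open CategoryTheory CategoryTheory.Limits AlgebraicGeometry Opposite TopologicalSpace

namespace K783.ExNonDeg

open LefPen K715.Geo Groth.Agent Groth.Agent.Lefpen.H705.HypIdeal Groth.Agent.Fdesc.LocGen
open Groth.Agent.Fano.K714.Rat Groth.Agent.Fano.K714.Quart Groth.Agent.Fano.K715.Quint K255.Pf

variable {k : Type u} [Field k] [IsAlgClosed k]

/-- (W): the section of the conormal sheaf given by the linear form vanishes to total order at most `4`. -/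
def WStmt (f : LefPen.Form 4 k 3) : Prop :=
  ∀ (C : Scheme.{u}) (p : C ⟶ Spec (CommRingCat.of k)) (i : C ⟶ Xf f) (_ : IsClosedImmersion i)
    (_ : i ≫ ps f = p) (_ : Smooth p) (_ : IsProper p) (_ : IsIntegral C)
    (_ : topologicalKrullDim C = 1) (_ : @Curv2.genus k _ C ⟨p⟩ = 1)
    (_ : @Curv2.deg k _ C ⟨p⟩ ((Scheme.Modules.pullback (i ≫ emb f)).obj
      (Twist.twistProjSpace 4 k 1)) 1 = 5)
    (l : LefPen.Form 4 k 1), l ≠ 0 → hypIdeal l ≤ (i ≫ emb f).ker → K554.ConDeg.VanBound f i l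

/-- G8a: there is a section of the normal sheaf which is not linear along the linear form. -/
def NonLinStmt (f : LefPen.Form 4 k 3) : Prop :=
  ∀ (C : Scheme.{u}) (p : C ⟶ Spec (CommRingCat.of k)) (i : C ⟶ Xf f) (_ : IsClosedImmersion i)
    (_ : i ≫ ps f = p) (_ : Smooth p) (_ : IsProper p) (_ : IsIntegral C)
    (_ : topologicalKrullDim C = 1) (_ : @Curv2.genus k _ C ⟨p⟩ = 1)
    (_ : @Curv2.deg k _ C ⟨p⟩ ((Scheme.Modules.pullback (i ≫ emb f)).obj
      (Twist.twistProjSpace 4 k 1)) 1 = 5)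
    (l₀ : LefPen.Form 4 k 1), l₀ ≠ 0 → hypIdeal l₀ ≤ (i ≫ emb f).ker →
    ∃ θ : Omega.conormal i ⟶ Coh.structureModule C, ∀ l₁ : LefPen.Form 4 k 1,
      ∃ (m : Fin 5) (c : Γ(ClSub.idealMod i.ker, emb f ⁻¹ᵁ chart 4 k m)),
        (ClSub.idealModι i.ker).app (emb f ⁻¹ᵁ chart 4 k m) c =
          ofFun (((emb f).app (chart 4 k m)).hom (rho m le_rfl l₀.1)) ∧
        θ.app (i ⁻¹ᵁ emb f ⁻¹ᵁ chart 4 k m) (pullSec i c) ≠
          ofFun ((i.app (emb f ⁻¹ᵁ chart 4 k m)).hom (((emb f).app (chart 4 k m)).hom (rho m le_rfl l₁.1)))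

/-- `K255.PlanE.exists_nondeg` from (W) and G8a. -/
theorem exists_nondeg [CharZero k] (f : LefPen.Form 4 k 3) (hf : f ≠ 0) [Smooth (ps f)] (hW : WStmt f)
    (hG : NonLinStmt f) (H : Over (Spec (CommRingCat.of k))) (Z : FGA.HilbSet (ps f) H)
    (hH : FGA.HilbRepresentedBy (ps f) H Z)
    {x : ↥H.left} (hx : x ∈ curveSet f H Z 1 5) (A : H.left.Opens) (hA : x ∈ A) :
    ∃ y ∈ A, y ∈ curveSetQ f H Z 1 5 NonDeg := by
  by_contra hno
  obtain ⟨h, C, p, i, rfl, hcl, hip, hsm, hpr, hint, hdim, hg, hdeg, hh⟩ := hx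
  have hd : ¬ NonDeg (i ≫ emb f).ker := fun hnd =>
    hno ⟨_, hA, h, C, p, i, rfl, hcl, hip, hsm, hpr, hint, hdim, hg, hdeg, hnd, hh⟩
  have h0 := K554.ConDeg.conormal_deg f hf C p i hcl hip hsm hpr hint hdim hg hdeg hd
    (hW C p i hcl hip hsm hpr hint hdim hg hdeg)
  have hreg := (K560.EllReg.regular_ten f hf H Z hH C p i hcl hip hsm hpr hint hdim hg hdeg h0 h hh).1
  unfold NonDeg at hd
  push Not at hd
  obtain ⟨l₀, hl₀, hl₀'⟩ := hd
  obtain ⟨θ, hθ⟩ := hG C p i hcl hip hsm hpr hint hdim hg hdeg l₀ hl₀ hl₀'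
  obtain ⟨l₁, hl₁⟩ := ThetaAll.theta_linear_all f hf H Z hH C p i hcl hip hsm hpr hint hdim hg hdeg h hh hreg A hA
    hno l₀ hl₀ hl₀' θ
  obtain ⟨m, c, hc, hc'⟩ := hθ l₁
  exact hc' (hl₁ m c hc)

/-- `K255.PlanE.conormal_deg` from (W). -/
theorem conormal_deg (f : LefPen.Form 4 k 3) (hf : f ≠ 0) [Smooth (ps f)] (hW : WStmt f)
    (C : Scheme.{u}) (p : C ⟶ Spec (CommRingCat.of k)) (i : C ⟶ Xf f) (hcl : IsClosedImmersion i)
    (hip : i ≫ ps f = p) (hsm : Smooth p) (hpr : IsProper p) (hint : IsIntegral C)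
    (hdim : topologicalKrullDim C = 1) (hg : @Curv2.genus k _ C ⟨p⟩ = 1)
    (hdeg : @Curv2.deg k _ C ⟨p⟩ ((Scheme.Modules.pullback (i ≫ emb f)).obj
      (Twist.twistProjSpace 4 k 1)) 1 = 5) (hd : ¬ NonDeg (i ≫ emb f).ker) :
    Subsingleton (Coh.HH C (Omega.conormal i) 0) :=
  K554.ConDeg.conormal_deg f hf C p i hcl hip hsm hpr hint hdim hg hdeg hd
    (hW C p i hcl hip hsm hpr hint hdim hg hdeg)

end K783.ExNonDeg
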