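import Groth.Agent.Fano.K783.ChartDef
import Groth.Agent.Fano.K496.OpenCurves
import Groth.Agent.S2259
import Groth.Agent.CalgA.RegBasic

/-!
# Neighbourhoods in the Hilbert scheme: smoothness and reducedness
-/

set_option autoImplicit false

universe u

open CategoryTheory CategoryTheory.Limits AlgebraicGeometry Opposite TopologicalSpace

namespace K783.DegOpen

open Groth.Agent Groth.Agent.Lefpen.H704.RelLocus

theorem smooth_appLE {Y T : Scheme.{u}} (π : Y ⟶ T) (U : T.affineOpens) (V : Y.affineOpens) (e : V.1 ≤ π ⁻¹ᵁ U.1)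
    (n : ℕ) (h : ∀ y ∈ V.1, y ∈ smOpen n π) : (π.appLE U.1 V.1 e).hom.Smooth := by
  have hV : IsAffine V.1.toScheme := V.2
  have h1 : SmoothOfRelativeDimension n (V.1.ι ≫ π) := smooth_of_forall_mem n π V.1 h
  have h2 : Smooth (V.1.ι ≫ π) := SmoothOfRelativeDimension.smooth n _
  have hle : (⊤ : V.1.toScheme.Opens) ≤ V.1.ι ⁻¹ᵁ V.1 := by simp
  have e1 : V.1.ι ''ᵁ ⊤ = V.1 := by simp
  have e2 : IsIso (V.1.ι.appLE V.1 ⊤ hle) := by
    rw [Scheme.Opens.ι_appLE]
    have : (homOfLE (le_of_eq e1) : V.1.ι ''ᵁ ⊤ ⟶ V.1) = eqToHom e1 := rfl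
    rw [this]
    have : IsIso (eqToHom e1).op := inferInstance
    exact Functor.map_isIso _ _
  have h3 : ((V.1.ι ≫ π).appLE U.1 ⊤ (hle.trans (V.1.ι.preimage_mono e))).hom.Smooth :=
    HasRingHomProperty.appLE (P := @Smooth) (V.1.ι ≫ π) h2 U ⟨⊤, isAffineOpen_top _⟩ _
  rw [← Scheme.Hom.appLE_comp_appLE V.1.ι π U.1 V.1 ⊤ e hle, CommRingCat.hom_comp] at h3
  let ε := (asIso (V.1.ι.appLE V.1 ⊤ hle)).commRingCatIsoToRingEquiv
  have h4 := RingHom.Smooth.respectsIso.1 _ ε.symm h3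
  have h5 : ε.symm.toRingHom.comp ((V.1.ι.appLE V.1 ⊤ hle).hom.comp (π.appLE U.1 V.1 e).hom) =
      (π.appLE U.1 V.1 e).hom := by
    ext x
    exact ε.symm_apply_apply _
  rw [h5] at h4
  exact h4

theorem isReduced_sections {X : Scheme.{u}} (U V : X.Opens) (h : V ≤ U) (hU : IsReduced U.toScheme) :
    _root_.IsReduced Γ(X, V) := by
  have h1 : IsReduced V.toScheme := isReduced_of_isOpenImmersion (X.homOfLE h)
  have h2 : _root_.IsReduced Γ(V.toScheme, ⊤) := inferInstance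
  exact isReduced_of_injective V.topIso.inv.hom (ConcreteCategory.bijective_of_isIso V.topIso.inv).1

theorem exists_reduced {X : Scheme.{u}} [IsLocallyNoetherian X] (x : X)
    (h : IsRegularLocalRing (X.presheaf.stalk x)) : ∃ U : X.Opens, x ∈ U ∧ IsReduced U.toScheme := by
  have h1 : IsDomain (X.presheaf.stalk x) := Groth.Agent.CalgA.RegBasic.isDomain _
  have h2 : _root_.IsReduced (X.presheaf.stalk x) := inferInstance
  exact Groth.Agent.S2259.result X x

end K783.DegOpen
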