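import Groth.Agent.Fano.K783.ChartDef
import Groth.Agent.Fano.K931.Saturate
import Groth.Agent.Fano.K931.Vanish
import Groth.Agent.Fano.K560.QuartAlg
import Groth.Agent.Fano.K783.SyzHom
import Groth.Agent.LefPen.K568.GenericForms

/-!
# Points of an integral scheme over `P^4` spanning the linear forms vanishing on it
-/

set_option autoImplicit false

universe u

open CategoryTheory CategoryTheory.Limits AlgebraicGeometry Opposite TopologicalSpace

namespace K783.LinPts

open LefPen K693.IdealFam K783.Ev K783.ChartDef K715.Geo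
open Groth.Agent Groth.Agent.Lefpen.H705.HypIdeal Groth.Agent.Lefpen.H705.SecIdeal
open Groth.Agent.Lefpen.H705.ChartPoly Groth.Agent.Fano.K931.Vanish Groth.Agent.Fano.K931.Saturate
open K330.FormSec Groth.Agent.Fdesc.LocGen Groth.Agent.Fano.K714.Quart

variable {k : Type u} [Field k]

/-! ## Structure maps -/

theorem finiteType_str {X : Scheme.{u}} (x : X ⟶ Spec (CommRingCat.of k)) [LocallyOfFiniteType x] (U : X.affineOpens) :
    (str x U.1).FiniteType := by
  have h1 : (x.appLE ⊤ U.1 le_top).hom.FiniteType :=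
    x.finiteType_appLE (isAffineOpen_top _) U.2 le_top
  have h2 : (Scheme.ΓSpecIso (CommRingCat.of k)).inv.hom.FiniteType :=
    RingHom.FiniteType.of_surjective _
      (ConcreteCategory.bijective_of_isIso (Scheme.ΓSpecIso (CommRingCat.of k)).inv).2
  exact RingHom.FiniteType.comp h1 h2

/-- A function vanishing at the `k`-points of an affine open vanishes. -/
theorem eq_zero_of_points [IsAlgClosed k] {C : Scheme.{u}} [IsReduced C] (p : C ⟶ Spec (CommRingCat.of k))
    [LocallyOfFiniteType p] (O : C.affineOpens) (g : Γ(C, O.1))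
    (h : ∀ (c : Spec (CommRingCat.of k) ⟶ C) (hc : ⊤ ≤ c ⁻¹ᵁ O.1), c ≫ p = 𝟙 _ → ev c O.1 hc g = 0) : g = 0 := by
  let _ := (str p O.1).toAlgebra
  have h1 : Algebra.FiniteType k Γ(C, O.1) := finiteType_str p O
  refine K783.DetAlg.eq_zero_of_points (k := k) _ g fun z => ?_
  obtain ⟨c, hc, hz⟩ := exists_point O.2 (z : Γ(C, O.1) →+* k)
  have h2 := h c hc (comp_eq_id p c O.1 hc (by
    rw [hz]
    ext a
    exact z.commutes a))
  rw [hz] at h2
  exact h2

/-! ## Linear forms -/

theorem app_rho_eqn {n d : ℕ} {C : Scheme.{u}} (r : C ⟶ CohB1.ProjSpace n k) (m : Fin (n + 1)) (F : Form n k d) :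
    (r.app (chart n k m)).hom (rho m le_rfl F.1) = eqn r m (r ⁻¹ᵁ chart n k m) le_rfl F := by
  rw [rho_form, ores_refl, eqn, Scheme.Hom.app_eq_appLE]

theorem hyp_le_iff {n d : ℕ} {C : Scheme.{u}} [IsIntegral C] (r : C ⟶ CohB1.ProjSpace n k) [QuasiCompact r]
    (m : Fin (n + 1)) (hm : ((r ⁻¹ᵁ chart n k m : C.Opens) : Set C).Nonempty) (F : Form n k d) :
    hypIdeal F ≤ r.ker ↔ (r.app (chart n k m)).hom (rho m le_rfl F.1) = 0 := by
  rw [app_rho_eqn, ← sec'_eq_zero_iff_le]
  exact ⟨fun h => (sec'_eq_zero_iff r F).1 h m, fun h => sec'_eq_zero_of_chart r m hm F h⟩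

theorem rho_C_str {n : ℕ} (m : Fin (n + 1)) {U : (CohB1.ProjSpace n k).Opens} (hU : U ≤ chart n k m) (c : k) :
    rho m hU (MvPolynomial.C c) = str (CohB1.ProjSpace.toSpec n k) U c := by
  rw [K783.SyzHom.rho_C]
  rfl

theorem app_rho_C {n : ℕ} {X : Scheme.{u}} (e : X ⟶ CohB1.ProjSpace n k) (x : X ⟶ Spec (CommRingCat.of k))
    (hx : e ≫ CohB1.ProjSpace.toSpec n k = x) (m : Fin (n + 1)) {U : (CohB1.ProjSpace n k).Opens}
    (hU : U ≤ chart n k m) (c : k) : (e.app U).hom (rho m hU (MvPolynomial.C c)) = str x (e ⁻¹ᵁ U) c := by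
  rw [rho_C_str]
  exact app_str (RingHom.id k) e (CohB1.ProjSpace.toSpec n k) x (by
    rw [CommRingCat.ofHom_id, Spec.map_id]
    exact hx.trans (Category.comp_id _).symm) U c

/-- The coordinate functions `X_j / X_m`. -/
noncomputable def bb {n : ℕ} {X : Scheme.{u}} (e : X ⟶ CohB1.ProjSpace n k) (m : Fin (n + 1)) (j : Fin (n + 1)) :
    Γ(X, e ⁻¹ᵁ chart n k m) := (e.app (chart n k m)).hom (rho m le_rfl (MvPolynomial.X j))

theorem lin_val (v : Fin 5 → k) : (lin v).1 = ∑ j, MvPolynomial.C (v j) * MvPolynomial.X j := by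
  rw [lin, AddSubmonoidClass.coe_finsetSum]
  refine Finset.sum_congr rfl fun j _ => ?_
  rw [← MvPolynomial.smul_eq_C_mul]
  rfl

theorem app_rho_lin {X : Scheme.{u}} (e : X ⟶ CohB1.ProjSpace 4 k) (x : X ⟶ Spec (CommRingCat.of k))
    (hx : e ≫ CohB1.ProjSpace.toSpec 4 k = x) (m : Fin 5) (v : Fin 5 → k) :
    (e.app (chart 4 k m)).hom (rho m le_rfl (lin v).1) = ∑ j, str x (e ⁻¹ᵁ chart 4 k m) (v j) * bb e m j := by
  rw [lin_val, map_sum, map_sum]
  refine Finset.sum_congr rfl fun j _ => ?_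
  rw [map_mul, map_mul, app_rho_C e x hx]
  rfl

theorem lin_surjective (l : Form 4 k 1) : ∃ v : Fin 5 → k, l = lin v := by
  have h1 : Function.Surjective (K560.QuartAlg.linL (k := k)) := by
    have h2 : Module.finrank k (Fin 5 → k) = Module.finrank k (Form 4 k 1) := by
      rw [K568.GenericForms.finrank_form, Module.finrank_fin_fun, Nat.choose_one_right]
    have h3 : Module.Finite k (Form 4 k 1) := by
      apply Module.finite_of_finrank_pos
      rw [← h2, Module.finrank_fin_fun]
      norm_num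
    refine (LinearMap.injective_iff_surjective_of_finrank_eq_finrank h2).1 ?_
    rw [injective_iff_map_eq_zero]
    intro v hv
    ext j
    have h4 : (lin v).1 = 0 := congrArg Subtype.val hv
    have h5 := congrArg (MvPolynomial.eval (Pi.single j (1 : k))) h4
    rw [eval_lin, map_zero] at h5
    simpa [Pi.single_apply] using h5
  obtain ⟨v, hv⟩ := h1 l
  exact ⟨v, hv.symm⟩

theorem lin_injective {v w : Fin 5 → k} (h : lin v = lin w) : v = w := by
  ext j
  have h5 := congrArg (fun F : Form 4 k 1 => MvPolynomial.eval (Pi.single j (1 : k)) F.1) h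
  simp only [eval_lin] at h5
  simpa [Pi.single_apply] using h5

/-! ## Points -/

section Pts

variable [IsAlgClosed k] {C : Scheme.{u}} [IsIntegral C] (r : C ⟶ CohB1.ProjSpace 4 k) [IsAffineHom r]
  (p : C ⟶ Spec (CommRingCat.of k)) (hp : r ≫ CohB1.ProjSpace.toSpec 4 k = p) [LocallyOfFiniteType p]
  (m : Fin 5) (hm : ((r ⁻¹ᵁ chart 4 k m : C.Opens) : Set C).Nonempty)

/-- The `k`-points of the chart. -/
abbrev Pt : Type u := {c : Spec (CommRingCat.of k) ⟶ C // c ≫ p = 𝟙 _ ∧ ⊤ ≤ c ⁻¹ᵁ (r ⁻¹ᵁ chart 4 k m)}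

/-- The vector of a point. -/
noncomputable def val (c : Pt r p m) (j : Fin 5) : k := ev c.1 _ c.2.2 (bb r m j)

include hp hm

theorem hyp_le_of_points (v : Fin 5 → k) (h : ∀ c : Pt r p m, ∑ j, v j * val r p m c j = 0) :
    hypIdeal (lin v) ≤ r.ker := by
  rw [hyp_le_iff r m hm, app_rho_lin r p hp]
  refine eq_zero_of_points p ⟨r ⁻¹ᵁ chart 4 k m, (isAffineOpen_chart m).preimage r⟩ _ fun c hc hcp => ?_
  refine (ev_sum p c (RingHom.id k) (by rw [hcp, specMap_id']) (r ⁻¹ᵁ chart 4 k m) hc v (bb r m)).trans ?_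
  exact h ⟨c, hcp, hc⟩

theorem exists_points (huniq : ∀ v w : Fin 5 → k, hypIdeal (lin v) ≤ r.ker → hypIdeal (lin w) ≤ r.ker → v ≠ 0 →
      ∃ a : k, w = a • v) :
    ∃ c : Fin 4 → Pt r p m, LinearIndependent k fun a => val r p m (c a) := by
  let S : Submodule k (Fin 5 → k) := Submodule.span k (Set.range (val r p m))
  have h1 : Module.finrank k S.dualAnnihilator ≤ 1 := by
    have key : ∀ φ ∈ S.dualAnnihilator, hypIdeal (lin fun j => φ (Pi.single j 1)) ≤ r.ker := by
      intro φ hφ
      refine hyp_le_of_points r p hp m hm _ fun c => ?_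
      have h2 := (Submodule.mem_dualAnnihilator φ).1 hφ (val r p m c) (Submodule.subset_span ⟨c, rfl⟩)
      rw [← h2]
      conv_rhs => rw [← Finset.univ_sum_single (val r p m c), map_sum]
      refine Finset.sum_congr rfl fun j _ => ?_
      have h3 : (Pi.single j (val r p m c j) : Fin 5 → k) = (val r p m c j) • Pi.single j (1 : k) := by
        rw [← Pi.single_smul, smul_eq_mul, mul_one]
      rw [h3, map_smul, smul_eq_mul, mul_comm]
    have hinj : ∀ φ : Module.Dual k (Fin 5 → k), (fun j => φ (Pi.single j 1)) = 0 → φ = 0 := by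
      intro φ h
      refine (Pi.basisFun k (Fin 5)).ext fun j => ?_
      rw [Pi.basisFun_apply]
      exact congrFun h j
    by_cases hb : S.dualAnnihilator = ⊥
    · rw [hb, finrank_bot]
      exact Nat.zero_le 1
    · obtain ⟨φ, hφ, hφ0⟩ := Submodule.exists_mem_ne_zero_of_ne_bot hb
      refine finrank_le_one (⟨φ, hφ⟩ : S.dualAnnihilator) fun ψ => ?_
      obtain ⟨a, ha⟩ := huniq _ _ (key φ hφ) (key ψ.1 ψ.2) (fun h => hφ0 (hinj φ h))
      refine ⟨a, Subtype.ext ?_⟩
      change a • φ = ψ.1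
      rw [← sub_eq_zero]
      apply hinj
      ext j
      have h4 := congrFun ha j
      change a * φ (Pi.single j 1) - ψ.1 (Pi.single j 1) = 0
      rw [h4]
      change a * φ (Pi.single j 1) - a * φ (Pi.single j 1) = 0
      exact sub_self _
  have h2 := Subspace.finrank_add_finrank_dualAnnihilator_eq S
  rw [Module.finrank_fin_fun] at h2
  have h3 : 4 ≤ Module.finrank k S := by omega
  obtain ⟨b, hb, hsp, hli⟩ := exists_linearIndependent k (Set.range (val r p m))
  have hfin : b.Finite := hli.setFinite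
  have := hfin.fintype
  have h4 : Module.finrank k S = Fintype.card b := by
    have h5 := finrank_span_eq_card hli
    rw [Subtype.range_coe, hsp] at h5
    exact h5
  obtain ⟨g⟩ := Function.Embedding.nonempty_of_card_le (α := Fin 4) (β := b) (by
    rw [Fintype.card_fin, ← h4]
    exact h3)
  choose c hc using fun a => hb (g a).2
  refine ⟨c, ?_⟩
  have h6 := hli.comp g g.injective
  refine (linearIndependent_equiv' (Equiv.refl _) ?_).1 h6
  ext a j
  exact congrFun (hc a) j

end Pts

end K783.LinPts
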