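import Groth.Agent.Fano.K419.RegThree
import Groth.Agent.Fano.K419.CurveE

/-!
# An elliptic quintic curve on a smooth cubic threefold is contained in at most one hyperplane
-/

set_option autoImplicit false

universe u

open CategoryTheory CategoryTheory.Limits AlgebraicGeometry Opposite TopologicalSpace MvPolynomial

namespace K783.NoPlane

open LefPen Groth.Agent Groth.Agent.Coherent.K51 K33.CIEuler K419.KillLin K419.RegThree K419.CurveE
open Groth.Agent.Fano.K714.Rat Groth.Agent.Fano.K714.Quart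

variable {k : Type u} [Field k]

/-- The degrees. -/
def dp : Fin 3 → ℕ := ![1, 1, 3]

/-- The two linear forms and the cubic form. -/
noncomputable def Gp (v w : Fin 5 → k) (f : Form 4 k 3) : ∀ j : Fin 3, Form 4 k (dp j)
  | 0 => lin v
  | 1 => lin w
  | 2 => f

theorem choose_id (q : ℕ) : (((q + 9).choose 4 : ℕ) : ℤ) - 2 * ((q + 8).choose 4 : ℕ) + ((q + 7).choose 4 : ℕ) -
    ((q + 6).choose 4 : ℕ) + 2 * ((q + 5).choose 4 : ℕ) - ((q + 4).choose 4 : ℕ) = 3 * ((q : ℤ) + 5) := by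
  have e : ∀ m j : ℕ, (((m + 1).choose (j + 1) : ℕ) : ℤ) = (m.choose j : ℕ) + (m.choose (j + 1) : ℕ) := fun m j => by
    rw [Nat.choose_succ_succ']; push_cast; rfl
  have e1 : ∀ m : ℕ, ((m.choose 1 : ℕ) : ℤ) = m := fun m => by rw [Nat.choose_one_right]
  rw [e (q + 8) 3, e (q + 7) 3, e (q + 7) 2, e (q + 5) 3, e (q + 4) 3, e (q + 4) 2, e (q + 6) 2, e (q + 6) 1,
    e (q + 5) 1, e (q + 4) 1, e1, e1, e1]
  simp only [Nat.reduceAdd]
  push_cast
  ring

theorem E_Gp (v w : Fin 5 → k) (f : Form 4 k 3) (h : CIReg.IsReg (Gp v w f)) (q : ℕ) :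
    E (ciIdeal (Gp v w f)).subschemeι ((q + 5 : ℕ) : ℤ) = 3 * ((q : ℤ) + 5) := by
  rw [K419.CoreCI.E_three _ h]
  have h0 : ((dp 0 : ℕ) : ℤ) = 1 := rfl
  have h1 : ((dp 1 : ℕ) : ℤ) = 1 := rfl
  have h2 : ((dp 2 : ℕ) : ℤ) = 3 := rfl
  rw [h0, h1, h2]
  have c0 := c_nat 4 (q + 5)
  have c1 := c_nat 4 (q + 4)
  have c2 := c_nat 4 (q + 3)
  have c3 := c_nat 4 (q + 2)
  have c4 := c_nat 4 (q + 1)
  have c5 := c_nat 4 q
  rw [show 4 + (q + 5) = q + 9 by ring] at c0
  rw [show 4 + (q + 4) = q + 8 by ring] at c1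
  rw [show 4 + (q + 3) = q + 7 by ring] at c2
  rw [show 4 + (q + 2) = q + 6 by ring] at c3
  rw [show 4 + (q + 1) = q + 5 by ring] at c4
  rw [show 4 + q = q + 4 by ring] at c5
  push_cast at c0 c1 c2 c3 c4 c5 ⊢
  rw [show (q : ℤ) + 5 - 1 - 1 = q + 3 by ring, show (q : ℤ) + 5 - 3 - 1 - 1 = q by ring,
    show (q : ℤ) + 5 - 3 - 1 = q + 1 by ring, show (q : ℤ) + 5 - 1 = q + 4 by ring,
    show (q : ℤ) + 5 - 3 = q + 2 by ring, c0, c1, c2, c3, c4, c5]
  have := choose_id q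
  linarith

theorem eq_smul_of_ker (v w : Fin 5 → k) (hv : v ≠ 0) (h : ∀ x : Fin 5 → k, ∑ i, v i * x i = 0 → ∑ i, w i * x i = 0) :
    ∃ a : k, w = a • v := by
  obtain ⟨i₀, hi₀⟩ : ∃ i, v i ≠ 0 := by
    by_contra hc
    push Not at hc
    exact hv (funext hc)
  refine ⟨w i₀ / v i₀, ?_⟩
  ext j
  have h1 := h (Pi.single j (v i₀) - Pi.single i₀ (v j)) (by
    simp only [Pi.sub_apply, mul_sub, Finset.sum_sub_distrib]
    rw [Finset.sum_eq_single j, Finset.sum_eq_single i₀]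
    · rw [Pi.single_eq_same, Pi.single_eq_same]; ring
    · intro b _ hb; rw [Pi.single_eq_of_ne hb, mul_zero]
    · intro hb; exact absurd (Finset.mem_univ _) hb
    · intro b _ hb; rw [Pi.single_eq_of_ne hb, mul_zero]
    · intro hb; exact absurd (Finset.mem_univ _) hb)
  simp only [Pi.sub_apply, mul_sub, Finset.sum_sub_distrib] at h1
  rw [Finset.sum_eq_single j, Finset.sum_eq_single i₀] at h1
  · rw [Pi.single_eq_same, Pi.single_eq_same] at h1
    change w j = w i₀ / v i₀ * v j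
    field_simp
    linear_combination h1
  · intro b _ hb; rw [Pi.single_eq_of_ne hb, mul_zero]
  · intro hb; exact absurd (Finset.mem_univ _) hb
  · intro b _ hb; rw [Pi.single_eq_of_ne hb, mul_zero]
  · intro hb; exact absurd (Finset.mem_univ _) hb

theorem isReg [IsAlgClosed k] (f : Form 4 k 3) (hf : f ≠ 0) [Smooth (ps f)] (v w : Fin 5 → k) (hv : v ≠ 0)
    (hw : ¬ ∃ a : k, w = a • v) : CIReg.IsReg (Gp v w f) := by
  have hv1 : (lin v).1 ≠ 0 := by
    intro h
    apply hv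
    ext i
    have h5 := congrArg (MvPolynomial.eval (Pi.single i (1 : k))) h
    rw [eval_lin, map_zero] at h5
    simpa [Pi.single_apply] using h5
  obtain ⟨K⟩ := exists_kill (lin v).1 ((MvPolynomial.mem_homogeneousSubmodule _ _).1 (lin v).2) hv1
  have h1 : K.φ (lin w).1 ≠ 0 := by
    intro h
    apply hw
    obtain ⟨g, hg⟩ := Ideal.mem_span_singleton'.1 (K.mem_of_φ h)
    refine eq_smul_of_ker v w hv fun x hx => ?_
    have h2 := congrArg (MvPolynomial.eval x) hg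
    rw [map_mul, eval_lin, eval_lin, hx, mul_zero] at h2
    exact h2.symm
  refine isReg_three (Gp v w f) K hv1 h1 fun g hg => ?_
  have hp : Prime (K.φ (lin w).1) :=
    prime_linear (n := 3) (K.homφ ((MvPolynomial.mem_homogeneousSubmodule _ _).1 (lin w).2)) h1
  rw [Ideal.mem_span_singleton] at hg ⊢
  rcases hp.dvd_or_dvd hg with h2 | h2
  · exfalso
    have h3 : f.1 ∈ Ideal.span {(lin v).1, (lin w).1} := K.mem_span_pair_iff.2 (Ideal.mem_span_singleton.2 h2)
    obtain ⟨a, b, hab⟩ := Ideal.mem_span_pair.1 h3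
    refine false_of_three f hf ![v, w, 0] (fun hc => hc.ne_zero (2 : Fin 3) rfl) fun x hx => ?_
    have h4 := hx 0
    have h5 := hx 1
    simp only [Matrix.cons_val_zero, Matrix.cons_val_one] at h4 h5
    rw [← hab, map_add, map_mul, map_mul, eval_lin, eval_lin, h4, h5]
    ring
  · exact h2

/-- **An elliptic quintic is contained in at most one hyperplane.** -/
theorem lin_unique [IsAlgClosed k] (f : Form 4 k 3) (hf : f ≠ 0) [Smooth (ps f)]
    (C : Scheme.{u}) (p : C ⟶ Spec (CommRingCat.of k)) (i : C ⟶ Xf f) (hcl : IsClosedImmersion i)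
    (hip : i ≫ ps f = p) (hpr : IsProper p) (hint : IsIntegral C)
    (hdim : topologicalKrullDim C = 1) (hg : @Curv2.genus k _ C ⟨p⟩ = 1)
    (hdeg : @Curv2.deg k _ C ⟨p⟩ ((Scheme.Modules.pullback (i ≫ emb f)).obj
      (Twist.twistProjSpace 4 k 1)) 1 = 5)
    (v w : Fin 5 → k) (hv : hypIdeal (lin v) ≤ (i ≫ emb f).ker) (hw : hypIdeal (lin w) ≤ (i ≫ emb f).ker)
    (hv0 : v ≠ 0) : ∃ a : k, w = a • v := by
  by_contra hc
  have hreg := isReg f hf v w hv0 hc
  have hj : (i ≫ emb f) ≫ CohB1.ProjSpace.toSpec 4 k = p := by rw [Category.assoc]; exact hip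
  have hle : ciIdeal (Gp v w f) ≤ (i ≫ emb f).ker := by
    refine iSup_le fun j => ?_
    match j with
    | 0 => exact hv
    | 1 => exact hw
    | 2 =>
      have h1 : hypIdeal f = (emb f).ker := (Scheme.IdealSheafData.ker_subschemeι _).symm
      exact h1.le.trans (Scheme.Hom.le_ker_comp i (emb f))
  obtain ⟨n₀, hn₀⟩ := E_le_of_le (i ≫ emb f) (ciIdeal (Gp v w f)) hle
  have h1 := hn₀ (n₀ + 5) (by omega)
  rw [E_Gp v w f hreg n₀, E_nat (i ≫ emb f) p hj hpr hdim, hdeg,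
    K419.QuartGood.genus_of_E (i ≫ emb f) p hj hpr hdim, hg] at h1
  push_cast at h1
  linarith

end K783.NoPlane
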