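import Groth.Agent.Fano.K783.ChartMain
import Groth.Agent.Fano.K783.LinPts
import Groth.Agent.Fano.K783.NoPlane
import Groth.Agent.Fano.K783.DegOpen
import Groth.Agent.Fano.K255.PfDef

/-!
# Degenerate elliptic quintics on a cubic threefold: sections of the normal sheaf (G8b of S16528)

If `C` is a degenerate elliptic quintic, contained in the hyperplane `l₀ = 0`, the Hilbert scheme is regular at `[C]` and all
elliptic quintics near `[C]` are degenerate, then every map `θ : conormal ⟶ O_C` maps `l₀ / X_m` to `l₁ / X_m` for some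
linear form `l₁`.
-/

set_option autoImplicit false

universe u

open CategoryTheory CategoryTheory.Limits AlgebraicGeometry Opposite TopologicalSpace

namespace K783.ThetaLin

open LefPen K693.IdealFam K783.Ev K783.ChartDef K715.Geo K783.LinPts K783.DegOpen
open Groth.Agent Groth.Agent.Lefpen.H705.HypIdeal Groth.Agent.Lefpen.H705.SecIdeal Groth.Agent.Lefpen.H704.RelLocus
open Groth.Agent.Lefpen.H705.ChartPoly Groth.Agent.Fano.K931.Vanish Groth.Agent.Fano.K931.Saturate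
open K330.FormSec Groth.Agent.Fdesc.LocGen
open Groth.Agent.Fano.K714.Rat Groth.Agent.Fano.K714.Quart Groth.Agent.Fano.K715.Quint K255.Pf

variable {k : Type u} [Field k]

theorem app_eq_zero_of_hyp_le {n d : ℕ} {C : Scheme.{u}} (r : C ⟶ CohB1.ProjSpace n k) [QuasiCompact r]
    (m : Fin (n + 1)) (F : Form n k d) (h : hypIdeal F ≤ r.ker) :
    (r.app (chart n k m)).hom (rho m le_rfl F.1) = 0 := by
  rw [app_rho_eqn]
  exact (sec'_eq_zero_iff r F).1 ((sec'_eq_zero_iff_le r F).2 h) m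

variable [IsAlgClosed k] [CharZero k]

/-- **G8b** in one chart. -/
theorem theta_linear (f : LefPen.Form 4 k 3) (hf : f ≠ 0) [Smooth (ps f)]
    (H : Over (Spec (CommRingCat.of k))) (Z : FGA.HilbSet (ps f) H) (hH : FGA.HilbRepresentedBy (ps f) H Z)
    (C : Scheme.{u}) (p : C ⟶ Spec (CommRingCat.of k)) (i : C ⟶ Xf f) (hcl : IsClosedImmersion i)
    (hip : i ≫ ps f = p) (hsm : Smooth p) (hpr : IsProper p) (hint : IsIntegral C)
    (hdim : topologicalKrullDim C = 1) (hg : @Curv2.genus k _ C ⟨p⟩ = 1)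
    (hdeg : @Curv2.deg k _ C ⟨p⟩ ((Scheme.Modules.pullback (i ≫ emb f)).obj
      (Twist.twistProjSpace 4 k 1)) 1 = 5)
    (h : pt k ⟶ H) (hh : FGA.hilbPull (ps f) h Z.1 = i.ker.comap (pullback.fst (ps f) (pt k).hom))
    (hreg : IsRegularLocalRing (H.left.presheaf.stalk (h.left.base (IsLocalRing.closedPoint k))))
    (A : H.left.Opens) (hA : h.left.base (IsLocalRing.closedPoint k) ∈ A)
    (hno : ¬ ∃ y ∈ A, y ∈ curveSetQ f H Z 1 5 NonDeg)
    (l₀ : LefPen.Form 4 k 1) (hl₀ : l₀ ≠ 0) (hl₀' : LefPen.hypIdeal l₀ ≤ (i ≫ emb f).ker)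
    (m : Fin 5) (hm : (((i ≫ emb f) ⁻¹ᵁ chart 4 k m : C.Opens) : Set C).Nonempty)
    (θ : Omega.conormal i ⟶ Coh.structureModule C) :
    ∃ l₁ : LefPen.Form 4 k 1, ∀ s : Γ(ClSub.idealMod i.ker, emb f ⁻¹ᵁ chart 4 k m),
      (ClSub.idealModι i.ker).app (emb f ⁻¹ᵁ chart 4 k m) s =
        ofFun (((emb f).app (chart 4 k m)).hom (rho m le_rfl l₀.1)) →
      θ.app (i ⁻¹ᵁ emb f ⁻¹ᵁ chart 4 k m) (pullSec i s) =
        ofFun ((i.app (emb f ⁻¹ᵁ chart 4 k m)).hom (((emb f).app (chart 4 k m)).hom (rho m le_rfl l₁.1))) := by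
  have i1 : IsProper (ps f) := inferInstance
  have i2 : LocallyOfFiniteType H.hom := K496.HilbLft.locallyOfFiniteType 4 (emb f) H Z hH
  have i3 : IsLocallyNoetherian H.left := hH.1
  let π : Z.1.subscheme ⟶ H.left := Z.1.subschemeι ≫ PicF.XTproj (ps f) H
  have i4 : IsProper π := Z.2.1
  have i5 : Flat π := Z.2.2
  have i6 : LocallyOfFinitePresentation π := K496.OpenCurves.lfp_of_noeth π
  have hj : (i ≫ emb f) ≫ CohB1.ProjSpace.toSpec 4 k = p := by rw [Category.assoc]; exact hip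
  -- the open neighbourhoods
  obtain ⟨A', -, hA'⟩ := K496.OpenCurves.exists_open_curveSet f hf H Z hH 1 5
  obtain ⟨Ur, hUr, hUr'⟩ := exists_reduced _ hreg
  obtain ⟨a₀, ha₀, -⟩ := K496.FibOpen.isPullback_of_hilbPull (ps f) Z.1 h i hh
  have i7 : SmoothOfRelativeDimension 1 (i ≫ ps f) := by
    have : Smooth (i ≫ ps f) := by rw [hip]; exact hsm
    exact Groth.Agent.Pi1.H536.CurveFam.smoothOfRelativeDimension_of_dim k (i ≫ ps f) 1 (by simpa using hdim)
  have hgood : h.left (IsLocalRing.closedPoint k) ∈ goodOpen 1 π :=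
    K496.FibOpen.mem_goodOpen_of_smooth π ha₀ 1
  have hxC : h.left.base (IsLocalRing.closedPoint k) ∈ curveSet f H Z 1 5 :=
    ⟨h, C, p, i, rfl, hcl, hip, hsm, hpr, hint, hdim, hg, hdeg, hh⟩
  have hxA' := ((hA' _).1 hxC).1
  obtain ⟨U, hU, hxU, hUle⟩ := exists_isAffineOpen_mem_and_subset
    (x := h.left (IsLocalRing.closedPoint k)) (U := A ⊓ A' ⊓ goodOpen 1 π ⊓ Ur) ⟨⟨⟨hA, hxA'⟩, hgood⟩, hUr⟩
  let U' : H.left.affineOpens := ⟨U, hU⟩
  let V : (Xf f).affineOpens := ⟨emb f ⁻¹ᵁ chart 4 k m, (isAffineOpen_chart m).preimage (emb f)⟩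
  have hred : _root_.IsReduced Γ(H.left, U'.1) := isReduced_sections Ur U (fun y hy => (hUle hy).2) hUr'
  have hft : (str H.hom U'.1).FiniteType := finiteType_str H.hom U'
  have hsmo : ((pp (ps f) Z).appLE U'.1 (ch (ps f) Z V U').1 (ch_le_pp (ps f) Z V U')).hom.Smooth :=
    smooth_appLE _ U' _ _ 1 fun y hy => (hUle hy.2).1.2 y rfl
  -- the fibres are degenerate
  have hdegen : ∀ h' : Over.mk (𝟙 (Spec (CommRingCat.of k))) ⟶ H, h'.left (IsLocalRing.closedPoint k) ∈ U'.1 →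
      ∃ (C : Scheme.{u}) (i : C ⟶ Xf f), IsClosedImmersion i ∧
        FGA.hilbPull (ps f) h' Z.1 = i.ker.comap (pullback.fst (ps f) (Over.mk (𝟙 (Spec (CommRingCat.of k)))).hom) ∧
        ∃ l : Fin 5 → k, l ≠ 0 ∧ i.app V.1 (∑ j, str (ps f) V.1 (l j) * bb (emb f) m j) = 0 := by
    intro h' hh'
    have hcl' : IsClosed ({h'.left (IsLocalRing.closedPoint k)} : Set ↥H.left) :=
      (pointEquivClosedPoint H.hom ⟨h'.left, Over.w h'⟩).2
    obtain ⟨h'', C', p', i', e1, e2, e3, e4, e5, e6, e7, e8, e9, e10⟩ :=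
      (hA' (h'.left (IsLocalRing.closedPoint k))).2 ⟨(hUle hh').1.1.2, hcl'⟩
    have e11 : h' = h'' := by
      ext1
      exact ext_of_apply_closedPoint_eq H.hom (Over.w h') (Over.w h'') e1
    subst e11
    have hnd : ¬ NonDeg (i' ≫ emb f).ker := fun hnd =>
      hno ⟨_, (hUle hh').1.1.1, h', C', p', i', rfl, e2, e3, e4, e5, e6, e7, e8, e9, hnd, e10⟩
    unfold NonDeg at hnd
    push Not at hnd
    obtain ⟨l, hl, hl'⟩ := hnd
    obtain ⟨v, rfl⟩ := lin_surjective l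
    refine ⟨C', i', e2, e10, v, ?_, ?_⟩
    · rintro rfl
      apply hl
      exact map_zero (K560.QuartAlg.linL (k := k))
    · have h1 := app_eq_zero_of_hyp_le (i' ≫ emb f) m (lin v) hl'
      have h2 := app_rho_lin (emb f) (ps f) rfl m v
      refine Eq.trans ?_ h1
      exact congrArg (i'.app V.1).hom h2.symm
  -- the points
  have haff : IsAffineHom (i ≫ emb f) := inferInstance
  obtain ⟨v₀, rfl⟩ := lin_surjective l₀
  have hv₀ : v₀ ≠ 0 := by
    rintro rfl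
    exact hl₀ (map_zero (K560.QuartAlg.linL (k := k)))
  obtain ⟨c, hc⟩ := exists_points (i ≫ emb f) p hj m hm fun v w hv hw hv0 =>
    K783.NoPlane.lin_unique f hf C p i hcl hip hpr hint hdim hg hdeg v w hv hw hv0
  have hcV : ∀ a, ⊤ ≤ ((c a).1 ≫ i) ⁻¹ᵁ V.1 := fun a => (c a).2.2
  have hval : ∀ a j, ev ((c a).1 ≫ i) V.1 (hcV a) (bb (emb f) m j) = val (i ≫ emb f) p m (c a) j := by
    intro a j
    rw [ev_comp_apply (c a).1 i (V' := i ⁻¹ᵁ V.1) le_rfl (hcV a) (hcV a), ← Scheme.Hom.app_eq_appLE]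
    rfl
  obtain ⟨l₁, hl₁⟩ := ChartDef.main (ps f) Z hH V U' (bb (emb f) m) hred hft hsmo hdegen i h hh hxU
    (fun a => (c a).1) (fun a => by rw [hip]; exact (c a).2.1) hcV (by simpa only [hval] using hc) v₀ hv₀ (by
      have h1 := app_eq_zero_of_hyp_le (i ≫ emb f) m (lin v₀) hl₀'
      have h2 := app_rho_lin (emb f) (ps f) rfl m v₀
      refine Eq.trans ?_ h1
      exact congrArg (i.app V.1).hom h2.symm) θ
  refine ⟨lin l₁, fun s hs => ?_⟩
  rw [app_rho_lin (emb f) (ps f) rfl m v₀] at hs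
  rw [app_rho_lin (emb f) (ps f) rfl m l₁]
  exact hl₁ s hs

end K783.ThetaLin
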