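import Mathlib.LinearAlgebra.Matrix.Determinant.Basic
import Mathlib.LinearAlgebra.Matrix.NonsingularInverse
import Mathlib.LinearAlgebra.Matrix.Rank
import Mathlib.LinearAlgebra.FiniteDimensional.Basic

/-!
# The linear equation of the hyperplane spanned by `n` vectors of `k^{n+1}`: cofactors
-/

set_option autoImplicit false

universe u v

namespace K783.Cof

variable {n : ℕ}

/-- The cofactors of `n` vectors. -/
noncomputable def cof {S : Type u} [CommRing S] (σ : Fin n → Fin (n + 1) → S) (j : Fin (n + 1)) : S :=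
  (-1) ^ (j : ℕ) * Matrix.det (Matrix.of fun i l => σ i (j.succAbove l))

theorem sum_cof {S : Type u} [CommRing S] (σ : Fin n → Fin (n + 1) → S) (x : Fin (n + 1) → S) :
    ∑ j, cof σ j * x j = Matrix.det (Matrix.of (Fin.cons x σ : Fin (n + 1) → Fin (n + 1) → S)) := by
  rw [Matrix.det_succ_row_zero]
  refine Finset.sum_congr rfl fun j _ => ?_
  rw [cof, mul_right_comm]
  rfl

theorem map_cof {S : Type u} {S' : Type v} [CommRing S] [CommRing S'] (φ : S →+* S') (σ : Fin n → Fin (n + 1) → S)
    (j : Fin (n + 1)) : φ (cof σ j) = cof (fun i l => φ (σ i l)) j := by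
  rw [cof, cof, map_mul, map_pow, map_neg, map_one, RingHom.map_det]
  rfl

theorem sum_cof_self {S : Type u} [CommRing S] (σ : Fin n → Fin (n + 1) → S) (i : Fin n) :
    ∑ j, cof σ j * σ i j = 0 := by
  rw [sum_cof]
  exact Matrix.det_zero_of_row_eq (i := 0) (j := i.succ) (Fin.succ_ne_zero i).symm rfl

variable {k : Type u} [Field k]

theorem cof_ne_zero (v : Fin n → Fin (n + 1) → k) (hv : LinearIndependent k v) : cof v ≠ 0 := by
  intro h
  have h1 : ∃ w : Fin (n + 1) → k, w ∉ Submodule.span k (Set.range v) := by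
    by_contra hc
    push Not at hc
    have h2 : Submodule.span k (Set.range v) = ⊤ := by
      rw [eq_top_iff]
      intro w _
      exact hc w
    have h3 := finrank_span_eq_card hv
    rw [h2, finrank_top, Module.finrank_fin_fun, Fintype.card_fin] at h3
    omega
  obtain ⟨w, hw⟩ := h1
  have h2 : LinearIndependent k (Fin.cons w v : Fin (n + 1) → Fin (n + 1) → k) :=
    linearIndependent_finCons.2 ⟨hv, hw⟩
  have h3 : Matrix.det (Matrix.of (Fin.cons w v : Fin (n + 1) → Fin (n + 1) → k)) ≠ 0 := by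
    have h4 := (Matrix.linearIndependent_rows_iff_isUnit
      (A := Matrix.of (Fin.cons w v : Fin (n + 1) → Fin (n + 1) → k))).1 h2
    rw [Matrix.isUnit_iff_isUnit_det] at h4
    exact h4.ne_zero
  apply h3
  rw [← sum_cof, h]
  simp

/-- The vectors orthogonal to `n` independent vectors are proportional. -/
theorem exists_smul (v : Fin n → Fin (n + 1) → k) (hv : LinearIndependent k v) (l c : Fin (n + 1) → k) (hl : l ≠ 0)
    (hlv : ∀ i, ∑ j, l j * v i j = 0) (hcv : ∀ i, ∑ j, c j * v i j = 0) : ∃ a : k, c = a • l := by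
  let M : Matrix (Fin n) (Fin (n + 1)) k := Matrix.of v
  have h1 : M.rank = n := by
    have := LinearIndependent.rank_matrix (M := M) hv
    rwa [Fintype.card_fin] at this
  have h2 := LinearMap.finrank_range_add_finrank_ker M.mulVecLin
  have h3 : Module.finrank k (LinearMap.range M.mulVecLin) = n := h1
  rw [h3, Module.finrank_fin_fun] at h2
  have h4 : Module.finrank k (LinearMap.ker M.mulVecLin) = 1 := by omega
  have hm : ∀ w : Fin (n + 1) → k, (∀ i, ∑ j, w j * v i j = 0) → w ∈ LinearMap.ker M.mulVecLin := by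
    intro w hw
    rw [LinearMap.mem_ker]
    ext i
    change ∑ j, v i j * w j = 0
    rw [← hw i]
    exact Finset.sum_congr rfl fun j _ => mul_comm _ _
  obtain ⟨a, ha⟩ := (finrank_eq_one_iff_of_nonzero' (⟨l, hm l hlv⟩ : LinearMap.ker M.mulVecLin)
    (fun h => hl (congrArg Subtype.val h))).1 h4 ⟨c, hm c hcv⟩
  exact ⟨a, (congrArg Subtype.val ha).symm⟩

/-- The cofactors are the equation of the hyperplane spanned by the vectors. -/
theorem exists_eq_smul (v : Fin n → Fin (n + 1) → k) (hv : LinearIndependent k v) (l : Fin (n + 1) → k) (hl : l ≠ 0)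
    (hlv : ∀ i, ∑ j, l j * v i j = 0) : ∃ a : k, a ≠ 0 ∧ ∀ j, cof v j = a * l j := by
  obtain ⟨a, ha⟩ := exists_smul v hv l (cof v) hl hlv (sum_cof_self v)
  refine ⟨a, ?_, fun j => congrFun ha j⟩
  rintro rfl
  exact cof_ne_zero v hv (by rw [ha, zero_smul])

end K783.Cof
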