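import Groth.Agent.Fano.K783.DetAlg
import Groth.Agent.Fano.K783.Cof
import Mathlib.RingTheory.RingHom.Smooth

/-!
# First order deformations of a degenerate family: the algebra

`B` smooth over `R` with functions `b_0, …, b_n` such that the points of every fibre satisfy a linear equation.  For an
infinitesimal `D`-point `v` of `Spec R` and `n` points of its closed fibre the linear equation of the closed fibre
(cofactors of the points) lifts to a linear equation of the fibre over `D`.
-/

set_option autoImplicit false

universe u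

namespace K783.DetCore

open K783.DetAlg K783.Cof

variable {k : Type u} [Field k] [IsAlgClosed k] {R B D E : Type u} [CommRing R] [CommRing B] [CommRing D] [CommRing E]

theorem det_zero_of_rel {n : ℕ} (x : Fin n → Fin n → k) (l : Fin n → k) (hl : l ≠ 0)
    (h : ∀ i, ∑ j, l j * x i j = 0) : Matrix.det (Matrix.of x) = 0 := by
  by_contra hc
  apply hl
  refine Matrix.eq_zero_of_mulVec_eq_zero hc ?_
  ext i
  change ∑ j, x i j * l j = 0
  rw [← h i]
  exact Finset.sum_congr rfl fun j _ => mul_comm _ _

theorem core {n : ℕ} (kR : k →+* R) (hkR : kR.FiniteType) [IsReduced R] (π : R →+* B) (hπ : π.Smooth)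
    (b : Fin (n + 1) → B)
    (hdeg : ∀ (u : R →+* k), u.comp kR = RingHom.id k → ∃ l : Fin (n + 1) → k, l ≠ 0 ∧
      ∀ z : B →+* k, z.comp π = u → ∑ j, l j * z (b j) = 0)
    (v : R →+* D) (res : D →+* k) (hres : Function.Surjective res) (hker : IsNilpotent (RingHom.ker res))
    (p : Fin n → B →+* k) (hp : ∀ i, (p i).comp π = res.comp v)
    (φ : B →+* E) (δ : D →+* E) (hφ : φ.comp π = δ.comp v) :
    ∃ c : Fin (n + 1) → D, ∑ j, δ (c j) * φ (b j) = 0 ∧ ∀ j, res (c j) = cof (fun i l => p i (b l)) j := by
  let _ := kR.toAlgebra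
  let _ := π.toAlgebra
  have hsm : Algebra.Smooth R B := hπ
  have hft : Algebra.FiniteType k R := hkR
  let _ : Algebra R D := v.toAlgebra
  let _ : Algebra R k := (res.comp v).toAlgebra
  let _ : Algebra R E := (δ.comp v).toAlgebra
  let resA : D →ₐ[R] k := { toRingHom := res, commutes' := fun _ => rfl }
  let pA : ∀ i, B →ₐ[R] k := fun i => { toRingHom := p i, commutes' := fun r => congr($(hp i) r) }
  let δA : D →ₐ[R] E := { toRingHom := δ, commutes' := fun _ => rfl }
  let φA : B →ₐ[R] E := { toRingHom := φ, commutes' := fun r => congr($hφ r) }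
  have hex : ∀ i, ∃ σ : B →ₐ[R] D, resA.comp σ = pA i := fun i =>
    ⟨Algebra.FormallySmooth.liftOfSurjective (pA i) resA hres hker,
      Algebra.FormallySmooth.comp_liftOfSurjective _ _ _ _⟩
  choose σ hσ using hex
  refine ⟨cof fun i l => σ i (b l), ?_, fun j => ?_⟩
  · have h1 := DetAlg.det_eq_zero (k := k) (R := R) (B := B) b (by
      intro u hu z hz
      obtain ⟨l, hl, h⟩ := hdeg u hu
      exact det_zero_of_rel _ l hl fun i => h (z i) (hz i)) (T' := E)
      (Fin.cons φA fun i => δA.comp (σ i))
    have h2 := sum_cof (fun i l => δ (σ i (b l))) (fun l => φ (b l))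
    have h3 : ∀ j, δ (cof (fun i l => σ i (b l)) j) = cof (fun i l => δ (σ i (b l))) j := fun j => map_cof δ _ j
    simp only [h3]
    rw [h2, ← h1]
    congr 1
    ext i j
    refine Fin.cases ?_ (fun i => ?_) i
    · rfl
    · rfl
  · rw [map_cof res]
    congr 1
    ext i l
    exact congr($(hσ i) (b l))

end K783.DetCore
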