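import Groth.Agent.DefT.K693.LHTan
import Groth.Agent.Fdesc.LocGenPullback

/-!
# First order deformations of a closed subscheme: the section of the normal sheaf, computed

`z` a closed subscheme of `X × Spec k[ε]`, flat over `k[ε]`, with fibre `Y`; `a, b` functions on `V ⊂ X` with
`a + ε b ∈ I(z)`: the section of the normal sheaf attached to `z` maps the class of `a` to `- b|_Y`.
-/

set_option autoImplicit false

universe u

open CategoryTheory CategoryTheory.Limits AlgebraicGeometry Opposite TopologicalSpace TensorProduct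

namespace K783.TanHilb

open K693.LHSit K693.IdealFam ArtFun ArtFun.Art K724.Tangent K693.ConFam K693.LHAlg K693.ModSec
open Groth.Agent.CohqB.HomSheaf Groth.Agent.Divis.IdealComap

variable {k : Type u} [Field k]

/-- The dual numbers. -/
noncomputable abbrev D (k : Type u) [Field k] : Art k k := ob k k k

/-- `ε`. -/
noncomputable def ep (k : Type u) [Field k] : D k := (TrivSqZeroExt.inr 1 : TrivSqZeroExt k k)

variable {X Y : Scheme.{u}} {i : Y ⟶ X} [IsClosedImmersion i] {I₀ : X.IdealSheafData}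
  (hi : i.ker = I₀) {x : X ⟶ Art.specPt k} (I : (localHilb X x I₀).obj (base k k))
  (z : (localHilb X x I₀).obj (D k))

/-- The inclusion of the closed fibre. -/
noncomputable abbrev j₀ : X ⟶ XA x (D k) := XAincl x (base k k) ≫ XAmap x (toBase (D k))

theorem dif_phi (W : (XA x (D k)).affineOpens) (a b : Γ(XA x (D k), W.1))
    (ha : a ∈ (tr k I).1.1.ideal W) (hz : a + str (XApr x (D k)) W.1 (ep k) * b ∈ z.1.ideal W) :
    comp (phi hi I LinearMap.id z) (i ⁻¹ᵁ (j₀ (x := x)) ⁻¹ᵁ W.1) le_top (cl i (j₀ (x := x)) W.1 a) =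
      - (show Γ(Coh.structureModule Y, i ⁻¹ᵁ (j₀ (x := x)) ⁻¹ᵁ W.1) from rho i (j₀ (x := x)) W.1 b) := by
  let G := geoI hi x (toBase (D k)) (semismall k) I
  let L := (formI (hi := hi) (x := x) (I := I) (semismall k) (dl (M := k) LinearMap.id)).lf
  let b₁ := fibreEquivI hi x (toBase (D k)) (semismall k) I (tr k I)
  let b₂ := fibreEquivI hi x (toBase (D k)) (semismall k) I ⟨z, Subsingleton.elim _ _⟩
  let w : AffIn G.sit.j₀ (⊤ : X.Opens) := ⟨W, le_top⟩
  have hl1 := b₁.lift w
  have hl2 := b₂.lift w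
  have hx : G.sit.ρ W.1 a = 0 := (RingHom.mem_ker).1 (hl1.good.le ha)
  have h1 := Sit.comp_dsec (V := (⊤ : X.Opens)) L b₁ b₂ w hx
  refine Eq.trans h1 ?_
  have hε : (-(ep k) : D k) ∈ G.sit.J := by
    change (toBase (D k)).toAlgHom (-(ep k)) = 0
    change -(toBase (D k)).toAlgHom (ep k) = 0
    exact neg_eq_zero.2 rfl
  have hp : IsPair G.sit.m G.sit.J (b₁.I w) (b₂.I w) a a (a + str (XApr x (D k)) W.1 (ep k) * b) := by
    refine ⟨ha, hz, ?_, ?_⟩
    · rw [sub_self]
      exact zero_mem _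
    · have h2 : a - (a + str (XApr x (D k)) W.1 (ep k) * b) = str (XApr x (D k)) W.1 (-(ep k)) * b := by
        rw [map_neg]; ring
      exact (congrArg (fun t => t ∈ (JR G.sit.J : Ideal Γ(G.sit.X', W.1))) h2).mpr
        (Ideal.mul_mem_right _ _ (Ideal.mem_map_of_mem _ hε))
  have h3 := (hl1.two hl2).dif_eq G.sit.hmJ (L.lin W.1) hp
  refine Eq.trans h3 ?_
  have h2 : a - (a + str (XApr x (D k)) W.1 (ep k) * b) = str (XApr x (D k)) W.1 (-(ep k)) * b := by
    rw [map_neg]; ring
  have h4 := Lam_alg (ρ := G.sit.ρ W.1) (L.lin W.1) ⟨-(ep k), hε⟩ b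
  refine Eq.trans (congrArg (Lam (G.sit.ρ W.1) G.sit.J (L.l W.1)) h2) (Eq.trans h4 ?_)
  have h5 : L.l W.1 ⟨-(ep k), hε⟩ = -1 := by
    change str (i ≫ x) _ (-(1 : k)) = -1
    rw [map_neg, map_one]
  rw [h5, neg_one_mul]
  rfl

/-- The product `X × Spec k` is `X`. -/
theorem fst_XAincl (x : X ⟶ Art.specPt k) :
    pullback.fst x (specOver (base k k)) ≫ XAincl x (base k k) = 𝟙 (XA x (base k k)) := by
  apply pullback.hom_ext
  · rw [Category.assoc, XAincl_fst, Category.comp_id, Category.id_comp]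
  · have h1 : (pullback.fst x (specOver (base k k)) ≫ XAincl x (base k k)) ≫ XApr x (base k k) =
        𝟙 _ ≫ XApr x (base k k) := by
      rw [Category.assoc, XAincl_snd, comp_specRes_base, Category.id_comp]
      have h2 : specOver (base k k) = 𝟙 (spec (base k k)) := by
        have h3 : ofBase (base k k) = 𝟙 (base k k) := hom_ext (AlgHom.ext fun _ => rfl)
        change specMap (ofBase (base k k)) = _
        rw [h3]
        exact specMap_id _
      refine Eq.trans (pullback.condition (f := x) (g := specOver (base k k))) ?_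
      exact (congrArg (fun t => XApr x (base k k) ≫ t) h2).trans (Category.comp_id _)
    exact h1

theorem base_eq (I : (localHilb X x I₀).obj (base k k)) :
    I.1 = I₀.comap (pullback.fst x (specOver (base k k))) := by
  have h1 : (I.1.comap (XAincl x (base k k))).comap (pullback.fst x (specOver (base k k))) =
      I₀.comap (pullback.fst x (specOver (base k k))) :=
    congrArg (fun J : X.IdealSheafData => J.comap (pullback.fst x (specOver (base k k)))) I.2.2
  rw [← Scheme.IdealSheafData.comap_comp, fst_XAincl, Scheme.IdealSheafData.comap_id] at h1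
  exact h1

theorem tr_eq (I : (localHilb X x I₀).obj (base k k)) :
    (tr k I).1.1 = I₀.comap (pullback.fst x (specOver (D k))) := by
  have h1 : (tr k I).1.1 = I.1.comap (XAmap x (obSection k k k)) := rfl
  rw [h1, base_eq I, ← Scheme.IdealSheafData.comap_comp, XAmap_fst]

theorem j₀_fst : (j₀ (x := x)) ≫ pullback.fst x (specOver (D k)) = 𝟙 X := by
  rw [Category.assoc, XAmap_fst, XAincl_fst]

instance : IsAffineHom (pullback.fst x (specOver (D k))) := by
  have : IsAffineHom (specOver (D k)) := isAffineHom_of_isAffine _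
  infer_instance

/-- The affine open `V × Spec k[ε]`. -/
noncomputable def prod (x : X ⟶ Art.specPt k) (V : X.affineOpens) : (XA x (D k)).affineOpens :=
  ⟨pullback.fst x (specOver (D k)) ⁻¹ᵁ V.1, V.2.preimage _⟩

/-- Pulled back functions. -/
noncomputable abbrev pb (x : X ⟶ Art.specPt k) (V : X.affineOpens) : Γ(X, V.1) →+* Γ(XA x (D k), (prod x V).1) :=
  ((pullback.fst x (specOver (D k))).app V.1).hom

theorem phi_cl (V : X.affineOpens) (a b : Γ(X, V.1)) (ha : i.app V.1 a = 0)
    (hz : pb x V a + str (XApr x (D k)) (prod x V).1 (ep k) * pb x V b ∈ z.1.ideal (prod x V)) :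
    comp (phi hi I LinearMap.id z) (i ⁻¹ᵁ (𝟙 X : X ⟶ X) ⁻¹ᵁ V.1) le_top (cl i (𝟙 X) V.1 a) =
      - (show Γ(Coh.structureModule Y, i ⁻¹ᵁ (𝟙 X : X ⟶ X) ⁻¹ᵁ V.1) from rho i (𝟙 X) V.1 b) := by
  have h1 : pb x V a ∈ (tr k I).1.1.ideal (prod x V) := by
    rw [tr_eq, ← hi]
    have h0 : (i.ker.comap (pullback.fst x (specOver (D k)))).ideal (prod x V) = (i.ker.ideal V).map (pb x V) :=
      ideal_comap_app _ _ V _
    rw [h0]
    refine Ideal.mem_map_of_mem _ ?_
    rw [Scheme.Hom.ker_apply]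
    exact ha
  have h2 := dif_phi hi I z (prod x V) (pb x V a) (pb x V b) h1 hz
  have h3 := cl_change i (j₀_fst (x := x)) V.1 a
  have h4 := rho_change i (j₀_fst (x := x)) V.1 b
  rw [h3]
  have h5 := comp_map (phi hi I LinearMap.id z) (V := i ⁻¹ᵁ (j₀ (x := x)) ⁻¹ᵁ (prod x V).1) le_top
    (i.preimage_mono (pre_eq (j₀_fst (x := x)) V.1).ge)
    (cl i (j₀ (x := x)) (prod x V).1 (pb x V a))
  refine Eq.trans h5 ?_
  rw [h2, h4]
  exact map_neg _ _

open Groth.Agent.Fdesc.LocGen Groth.Agent.Dual.H366.ConSec in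
/-- The value of the map attached to a deformation. -/
theorem app_pullSec (θ : Omega.conormal i ⟶ Coh.structureModule Y)
    (hθ : phi hi I LinearMap.id z = (topEquiv _ _).symm θ) (V : X.affineOpens) (a b : Γ(X, V.1))
    (ha : i.app V.1 a = 0)
    (hz : pb x V a + str (XApr x (D k)) (prod x V).1 (ep k) * pb x V b ∈ z.1.ideal (prod x V))
    (c : Γ(ClSub.idealMod i.ker, V.1)) (hc : (ClSub.idealModι i.ker).app V.1 c = ofFun a) :
    θ.app (i ⁻¹ᵁ V.1) (pullSec i c) = - ofFun (i.app V.1 b) := by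
  have h1 := phi_cl hi I z V a b ha hz
  rw [hθ, topEquiv_symm, comp_ofHom] at h1
  have h2 : cl i (𝟙 X) V.1 a = (show Γ(Omega.conormal i, i ⁻¹ᵁ (𝟙 X : X ⟶ X) ⁻¹ᵁ V.1) from pullSec i c) := by
    refine Eq.trans (cl_eq i (𝟙 X) (W := V.1) (x := a)
      (c := (show Groth.Agent.Sga67.Sec.Sec (ClSub.idealMod i.ker) ((𝟙 X : X ⟶ X) ⁻¹ᵁ V.1) from c)) (by
      change (ClSub.idealModι i.ker).app V.1 c = (𝟙 X : X ⟶ X).app V.1 a
      rw [hc, Scheme.Hom.id_app]
      rfl)) ?_
    change (Omega.conormal i).presheaf.map (homOfLE (le_refl (i ⁻¹ᵁ V.1))).op (pullSec i c) = pullSec i c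
    have h3 : (homOfLE (le_refl (i ⁻¹ᵁ V.1))).op = 𝟙 _ := rfl
    rw [h3, CategoryTheory.Functor.map_id]
    rfl
  rw [h2] at h1
  refine Eq.trans h1 ?_
  congr 1

end K783.TanHilb
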