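import Groth.Agent.Fano.K783.Ev
import Groth.Agent.Fano.K783.DetCore
import Groth.Agent.Fano.K783.TanHilb
import Groth.Agent.Fano.K496.FibOpen
import Groth.Agent.Deform.K723.HilbPt
import Groth.Agent.Ega3B.ProjFrame

/-!
# Degenerate families of closed subschemes: the normal sheaf in a chart

`X` proper over `k`, `Z ⊂ X × H` the universal family of the Hilbert scheme, `V ⊂ X` affine with functions
`b_0, …, b_n`, `U ⊂ H` affine and reduced, the family smooth over `U` in the chart `V`, and every fibre satisfies a linear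
equation `∑ l_j b_j = 0` on `V`.  If `C` is a fibre spanning the hyperplane `∑ l₀_j b_j = 0` then every map
`θ : conormal ⟶ O_C` maps the class of `∑ l₀_j b_j` to a linear combination of the `b_j`.
-/

set_option autoImplicit false

universe u

open CategoryTheory CategoryTheory.Limits AlgebraicGeometry Opposite TopologicalSpace

namespace K783.ChartDef

open K693.LHSit K693.IdealFam ArtFun ArtFun.Art K724.Tangent K783.TanHilb K783.Ev K783.Cof
open Groth.Agent.CohqB.HomSheaf Groth.Agent.Divis.IdealComap Groth.Agent.Fdesc.LocGen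

variable {k : Type u} [Field k] {X : Scheme.{u}} (x : X ⟶ Spec (CommRingCat.of k))
  {H : Over (Spec (CommRingCat.of k))} (Z : FGA.HilbSet x H)

/-- The universal family. -/
noncomputable abbrev ZZ : Scheme.{u} := Z.1.subscheme

/-- The projection to `X`. -/
noncomputable abbrev qq : ZZ x Z ⟶ X := Z.1.subschemeι ≫ pullback.fst x H.hom

/-- The projection to `H`. -/
noncomputable abbrev pp : ZZ x Z ⟶ H.left := Z.1.subschemeι ≫ PicF.XTproj x H

/-- The chart of the universal family. -/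
noncomputable def ch (V : X.affineOpens) (U : H.left.affineOpens) : (ZZ x Z).affineOpens :=
  ⟨Z.1.subschemeι ⁻¹ᵁ (pullback.fst x H.hom ⁻¹ᵁ V.1 ⊓ pullback.snd x H.hom ⁻¹ᵁ U.1),
    (Groth.Agent.Ega3B.ProjFrame.isAffineOpen_fst_inf_snd x H.hom V.2 U.2).preimage _⟩

theorem ch_le_qq (V : X.affineOpens) (U : H.left.affineOpens) : (ch x Z V U).1 ≤ (qq x Z) ⁻¹ᵁ V.1 :=
  fun _ h => h.1

theorem ch_le_pp (V : X.affineOpens) (U : H.left.affineOpens) : (ch x Z V U).1 ≤ (pp x Z) ⁻¹ᵁ U.1 :=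
  fun _ h => h.2

theorem mem_ch (V : X.affineOpens) (U : H.left.affineOpens) (y : ZZ x Z) (h1 : qq x Z y ∈ V.1)
    (h2 : pp x Z y ∈ U.1) : y ∈ (ch x Z V U).1 := ⟨h1, h2⟩

/-- The map from a pulled back family to the universal family. -/
theorem exists_psi {T : Over (Spec (CommRingCat.of k))} (g : T ⟶ H) (J : (PicF.XT x T).IdealSheafData)
    (hJ : FGA.hilbPull x g Z.1 = J) :
    ∃ ψ : J.subscheme ⟶ ZZ x Z, ψ ≫ Z.1.subschemeι = J.subschemeι ≫ PicF.XTmap x g := by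
  rw [Groth.Agent.Fga.HilbFun.hilbPull_eq_comap] at hJ
  subst hJ
  refine ⟨(Z.1.comapIso (PicF.XTmap x g)).hom ≫ pullback.snd _ _, ?_⟩
  rw [Category.assoc, ← pullback.condition, Scheme.IdealSheafData.comapIso_hom_fst_assoc]

theorem top_le_preimage {T : Type u} [CommRing T] {Y : Scheme.{u}} (t : Spec (CommRingCat.of T) ⟶ Y) (V : Y.Opens)
    (h : ∀ y, t y ∈ V) : ⊤ ≤ t ⁻¹ᵁ V := fun y _ => h y

theorem pt_mem {Y : Scheme.{u}} (t : Spec (CommRingCat.of k) ⟶ Y) (V : Y.Opens)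
    (h : t (IsLocalRing.closedPoint k) ∈ V) : ⊤ ≤ t ⁻¹ᵁ V := by
  intro y _
  have hy : y = IsLocalRing.closedPoint k := Subsingleton.elim (α := PrimeSpectrum k) _ _
  subst hy
  exact h

/-- Every point of the spectrum of an Artinian ring is the closed point. -/
theorem art_mem {A : Art k k} {Y : Scheme.{u}} (t : Art.spec A ⟶ Y) (V : Y.Opens)
    (h : (Art.specRes A ≫ t) (IsLocalRing.closedPoint k) ∈ V) : ⊤ ≤ t ⁻¹ᵁ V := by
  intro y _
  have hy : y = Art.specRes A (IsLocalRing.closedPoint k) := Subsingleton.elim (α := PrimeSpectrum A) _ _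
  subst hy
  exact h

theorem comp_eq_id {Y : Scheme.{u}} (y : Y ⟶ Spec (CommRingCat.of k)) (t : Spec (CommRingCat.of k) ⟶ Y) (V : Y.Opens)
    (h : ⊤ ≤ t ⁻¹ᵁ V) (hu : (ev t V h).comp (str y V) = RingHom.id k) : t ≫ y = 𝟙 _ := by
  refine ev_ext (V := ⊤) (isAffineOpen_top _) le_top le_top ?_
  rw [ev_comp t y (V' := V) le_top h le_top]
  have h1 : (ev (𝟙 (Spec (CommRingCat.of k))) ⊤ le_top) = (Scheme.ΓSpecIso (CommRingCat.of k)).hom.hom := by
    rw [ev]
    have h2 : (𝟙 (Spec (CommRingCat.of k)) : Spec (CommRingCat.of k) ⟶ _).appLE ⊤ ⊤ le_top = 𝟙 _ := by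
      rw [Scheme.Hom.appLE, Scheme.Hom.id_app]
      exact (Category.id_comp _).trans (CategoryTheory.Functor.map_id _ _)
    rw [h2, Category.id_comp]
  rw [h1]
  have h3 : (ev t V h).comp (y.appLE ⊤ V le_top).hom =
      ((ev t V h).comp (str y V)).comp (Scheme.ΓSpecIso (CommRingCat.of k)).hom.hom := by
    rw [RingHom.comp_assoc, str, ← CommRingCat.hom_comp, Iso.hom_inv_id_assoc]
  rw [h3, hu, RingHom.id_comp]

/-- The value of a linear combination of functions. -/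
theorem ev_sum {n : ℕ} {T : Type u} [CommRing T] {Y : Scheme.{u}} (y : Y ⟶ Spec (CommRingCat.of k))
    (t : Spec (CommRingCat.of T) ⟶ Y)
    (φ : k →+* T) (w : t ≫ y = Spec.map (CommRingCat.ofHom φ)) (V : Y.Opens) (h : ⊤ ≤ t ⁻¹ᵁ V) (l : Fin n → k)
    (b : Fin n → Γ(Y, V)) :
    ev t V h (∑ j, str y V (l j) * b j) = ∑ j, φ (l j) * ev t V h (b j) := by
  rw [map_sum]
  refine Finset.sum_congr rfl fun j _ => ?_
  rw [map_mul, ev_str y t φ w]

theorem specMap_id' : Spec.map (CommRingCat.ofHom (RingHom.id k)) = 𝟙 (Spec (CommRingCat.of k)) := by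
  rw [CommRingCat.ofHom_id, Spec.map_id]

/-- The linear equation of the points of a degenerate fibre. -/
theorem rel_of_point {n : ℕ} (V : X.affineOpens) (U : H.left.affineOpens) (b : Fin n → Γ(X, V.1))
    (hdeg : ∀ h : Over.mk (𝟙 (Spec (CommRingCat.of k))) ⟶ H, h.left (IsLocalRing.closedPoint k) ∈ U.1 →
      ∃ (C : Scheme.{u}) (i : C ⟶ X), IsClosedImmersion i ∧
        FGA.hilbPull x h Z.1 = i.ker.comap (pullback.fst x (Over.mk (𝟙 (Spec (CommRingCat.of k)))).hom) ∧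
        ∃ l : Fin n → k, l ≠ 0 ∧ i.app V.1 (∑ j, str x V.1 (l j) * b j) = 0)
    (u : Γ(H.left, U.1) →+* k) (hu : u.comp (str H.hom U.1) = RingHom.id k) :
    ∃ l : Fin n → k, l ≠ 0 ∧ ∀ z : Γ(ZZ x Z, (ch x Z V U).1) →+* k,
      z.comp ((pp x Z).appLE U.1 (ch x Z V U).1 (ch_le_pp x Z V U)).hom = u →
        ∑ j, l j * z (((qq x Z).appLE V.1 (ch x Z V U).1 (ch_le_qq x Z V U)).hom (b j)) = 0 := by
  obtain ⟨t, ht, htu⟩ := exists_point U.2 u
  have ht1 : t ≫ H.hom = 𝟙 _ := comp_eq_id H.hom t U.1 ht (by rw [htu, hu])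
  let h : Over.mk (𝟙 (Spec (CommRingCat.of k))) ⟶ H := Over.homMk t ht1
  obtain ⟨C, i, hcl, he, l, hl, hl0⟩ := hdeg h (ht (by trivial))
  obtain ⟨a, ha, hai⟩ := K496.FibOpen.isPullback_of_hilbPull x Z.1 h i he
  refine ⟨l, hl, fun z hz => ?_⟩
  obtain ⟨s, hs, hsz⟩ := exists_point (ch x Z V U).2 z
  have hs1 : ⊤ ≤ (s ≫ pp x Z) ⁻¹ᵁ U.1 := fun y hy => ch_le_pp x Z V U (hs hy)
  have hs2 : ⊤ ≤ (s ≫ qq x Z) ⁻¹ᵁ V.1 := fun y hy => ch_le_qq x Z V U (hs hy)
  have hst : s ≫ pp x Z = t := ev_ext U.2 hs1 ht (by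
    rw [ev_comp s (pp x Z) (ch_le_pp x Z V U) hs hs1, hsz, hz, htu])
  have hw : s ≫ pp x Z = 𝟙 _ ≫ h.left := by rw [hst, Category.id_comp]; rfl
  let c : Spec (CommRingCat.of k) ⟶ C := ha.lift s (𝟙 _) hw
  have hc : c ≫ i = s ≫ qq x Z := by
    have h1 : c ≫ a = s := ha.lift_fst s (𝟙 _) hw
    rw [← hai, ← Category.assoc, h1]
  have hc' : c ≫ i ≫ x = 𝟙 _ := ha.lift_snd s (𝟙 _) hw
  have hci : ⊤ ≤ (c ≫ i) ⁻¹ᵁ V.1 := by rw [hc]; exact hs2
  have hval : ∀ f : Γ(X, V.1), z (((qq x Z).appLE V.1 (ch x Z V U).1 (ch_le_qq x Z V U)).hom f) =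
      ev (c ≫ i) V.1 hci f := by
    intro f
    rw [← hsz, ← ev_comp_apply s (qq x Z) (ch_le_qq x Z V U) hs hs2 f]
    exact congr($(ev_congr hc.symm V.1 hs2 hci) f)
  have h2 := ev_sum x (c ≫ i) (RingHom.id k) (by rw [Category.assoc, hc', specMap_id']) V.1 hci l b
  have h3 : ev (c ≫ i) V.1 hci (∑ j, str x V.1 (l j) * b j) = 0 := by
    rw [ev_comp_apply c i (V' := i ⁻¹ᵁ V.1) le_rfl hci hci, ← Scheme.Hom.app_eq_appLE]
    exact (congrArg _ hl0).trans (map_zero _)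
  rw [h3] at h2
  simp only [hval]
  exact h2.symm

end K783.ChartDef
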