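import Groth.Agent.Fano.K783.ChartDef

/-!
# Degenerate families of closed subschemes: the main theorem in a chart

See `K783.ChartDef`.
-/

set_option autoImplicit false

universe u

open CategoryTheory CategoryTheory.Limits AlgebraicGeometry Opposite TopologicalSpace

namespace K783.ChartDef

open K693.LHSit K693.IdealFam ArtFun ArtFun.Art K724.Tangent K783.TanHilb K783.Ev K783.Cof
open Groth.Agent.CohqB.HomSheaf Groth.Agent.Divis.IdealComap Groth.Agent.Fdesc.LocGen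

variable {k : Type u} [Field k] {X : Scheme.{u}} (x : X ⟶ Spec (CommRingCat.of k))
  {H : Over (Spec (CommRingCat.of k))} (Z : FGA.HilbSet x H)

theorem pb_str (V : X.affineOpens) (c : k) :
    pb x V (str x V.1 c) = str (XApr x (D k)) (prod x V).1 (TrivSqZeroExt.inl c : TrivSqZeroExt k k) :=
  app_str (R := k) (R' := D k) (algebraMap k (D k)) (pullback.fst x (specOver (D k))) x (XApr x (D k))
    (pullback.condition (f := x) (g := specOver (D k))) V.1 c

/-- A linear combination with dual number coefficients. -/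
theorem str_dual (V : X.affineOpens) (c : D k) :
    str (XApr x (D k)) (prod x V).1 c =
      pb x V (str x V.1 (TrivSqZeroExt.fst (show TrivSqZeroExt k k from c))) +
        str (XApr x (D k)) (prod x V).1 (ep k) * pb x V (str x V.1 (TrivSqZeroExt.snd (show TrivSqZeroExt k k from c))) := by
  rw [pb_str, pb_str, ← map_mul, ← map_add]
  congr 1
  refine TrivSqZeroExt.ext ?_ ?_
  · change TrivSqZeroExt.fst (show TrivSqZeroExt k k from c) = TrivSqZeroExt.fst (show TrivSqZeroExt k k from c) +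
      0 * TrivSqZeroExt.snd (show TrivSqZeroExt k k from c)
    ring
  · change TrivSqZeroExt.snd (show TrivSqZeroExt k k from c) =
      0 + ((0 : k) • (0 : k) + MulOpposite.op (TrivSqZeroExt.snd (show TrivSqZeroExt k k from c)) • (1 : k))
    rw [zero_smul, zero_add, zero_add, op_smul_eq_smul, smul_eq_mul, mul_one]

theorem sum_dual {n : ℕ} (V : X.affineOpens) (b : Fin n → Γ(X, V.1)) (c : Fin n → D k) :
    ∑ j, str (XApr x (D k)) (prod x V).1 (c j) * pb x V (b j) =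
      pb x V (∑ j, str x V.1 (TrivSqZeroExt.fst (show TrivSqZeroExt k k from c j)) * b j) +
        str (XApr x (D k)) (prod x V).1 (ep k) *
          pb x V (∑ j, str x V.1 (TrivSqZeroExt.snd (show TrivSqZeroExt k k from c j)) * b j) := by
  rw [map_sum, map_sum, Finset.mul_sum, ← Finset.sum_add_distrib]
  refine Finset.sum_congr rfl fun j _ => ?_
  rw [str_dual, map_mul, map_mul]
  ring

theorem nilp_ker : IsNilpotent (RingHom.ker ((D k).res : D k →+* k)) := by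
  rw [ker_res]
  exact ⟨2, ob_sq⟩

theorem main [IsAlgClosed k] [IsProper x] (hH : FGA.HilbRepresentedBy x H Z) {n : ℕ} (V : X.affineOpens)
    (U : H.left.affineOpens) (b : Fin (n + 1) → Γ(X, V.1))
    (hred : _root_.IsReduced Γ(H.left, U.1)) (hft : (str H.hom U.1).FiniteType)
    (hsm : ((pp x Z).appLE U.1 (ch x Z V U).1 (ch_le_pp x Z V U)).hom.Smooth)
    (hdeg : ∀ h : Over.mk (𝟙 (Spec (CommRingCat.of k))) ⟶ H, h.left (IsLocalRing.closedPoint k) ∈ U.1 →
      ∃ (C : Scheme.{u}) (i : C ⟶ X), IsClosedImmersion i ∧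
        FGA.hilbPull x h Z.1 = i.ker.comap (pullback.fst x (Over.mk (𝟙 (Spec (CommRingCat.of k)))).hom) ∧
        ∃ l : Fin (n + 1) → k, l ≠ 0 ∧ i.app V.1 (∑ j, str x V.1 (l j) * b j) = 0)
    {C : Scheme.{u}} (i : C ⟶ X) [IsClosedImmersion i] (h : Over.mk (𝟙 (Spec (CommRingCat.of k))) ⟶ H)
    (hh : FGA.hilbPull x h Z.1 = i.ker.comap (pullback.fst x (Over.mk (𝟙 (Spec (CommRingCat.of k)))).hom))
    (hU : h.left (IsLocalRing.closedPoint k) ∈ U.1)
    (c : Fin n → (Spec (CommRingCat.of k) ⟶ C)) (hc : ∀ a, c a ≫ i ≫ x = 𝟙 _) (hcV : ∀ a, ⊤ ≤ (c a ≫ i) ⁻¹ᵁ V.1)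
    (hlin : LinearIndependent k fun a j => ev (c a ≫ i) V.1 (hcV a) (b j))
    (l₀ : Fin (n + 1) → k) (hl₀ : l₀ ≠ 0) (hl₀' : i.app V.1 (∑ j, str x V.1 (l₀ j) * b j) = 0)
    (θ : Omega.conormal i ⟶ Coh.structureModule C) :
    ∃ l₁ : Fin (n + 1) → k, ∀ s : Γ(ClSub.idealMod i.ker, V.1),
      (ClSub.idealModι i.ker).app V.1 s = ofFun (∑ j, str x V.1 (l₀ j) * b j) →
        θ.app (i ⁻¹ᵁ V.1) (pullSec i s) = ofFun (i.app V.1 (∑ j, str x V.1 (l₁ j) * b j)) := by
  -- the deformation attached to `θ`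
  obtain ⟨I⟩ : Nonempty ((localHilb X x i.ker).obj (base k k)) := (K680.LHFib.h0 x i.ker).1
  obtain ⟨z, hz⟩ := (phi1_bijective (hi := (rfl : i.ker = i.ker)) I).2 ((topEquiv _ _).symm θ)
  obtain ⟨g, hg⟩ := (K723.HilbPt.toHilb_bijective x i.ker Z hH h hh (D k)).2 z
  have hg' : FGA.hilbPull x (g.hom h) Z.1 = z.1 := congrArg Subtype.val hg
  obtain ⟨ψ, hψ⟩ := exists_psi x Z (g.hom h) z.1 hg'
  -- the maps
  have hgU : ⊤ ≤ g.1 ⁻¹ᵁ U.1 := art_mem g.1 U.1 (by rw [g.2.2]; exact hU)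
  let S := z.1.subscheme
  let O : S.Opens := z.1.subschemeι ⁻¹ᵁ (prod x V).1
  let w : S ⟶ Art.spec (D k) := z.1.subschemeι ≫ XApr x (D k)
  have hψp : ψ ≫ pp x Z = w ≫ g.1 := by
    rw [← Category.assoc, hψ, Category.assoc]
    have h1 : PicF.XTmap x (g.hom h) ≫ PicF.XTproj x H = XApr x (D k) ≫ g.1 := pullback.lift_snd _ _ _
    rw [h1, Category.assoc]
  have hψq : ψ ≫ qq x Z = z.1.subschemeι ≫ pullback.fst x (specOver (D k)) := by
    rw [← Category.assoc, hψ, Category.assoc]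
    have h1 : PicF.XTmap x (g.hom h) ≫ pullback.fst x H.hom = pullback.fst x (specOver (D k)) :=
      FGA.XTmap_fst _ _
    rw [h1]
  have hψO : O ≤ ψ ⁻¹ᵁ (ch x Z V U).1 := by
    intro y hy
    refine mem_ch x Z V U _ ?_ ?_
    · have h1 : qq x Z (ψ y) = pullback.fst x (specOver (D k)) (z.1.subschemeι y) := congr($hψq y)
      rw [h1]
      exact hy
    · have h1 : pp x Z (ψ y) = g.1 (w y) := congr($hψp y)
      rw [h1]
      exact hgU (by trivial : w y ∈ (⊤ : (Art.spec (D k)).Opens))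
  let φ : Γ(ZZ x Z, (ch x Z V U).1) →+* Γ(S, O) := (ψ.appLE (ch x Z V U).1 O hψO).hom
  let δ : D k →+* Γ(S, O) := str w O
  let v : Γ(H.left, U.1) →+* D k := ev g.1 U.1 hgU
  have hOU : O ≤ (ψ ≫ pp x Z) ⁻¹ᵁ U.1 := fun y hy => ch_le_pp x Z V U (hψO hy)
  have hOU' : O ≤ (w ≫ g.1) ⁻¹ᵁ U.1 := by rw [← hψp]; exact hOU
  have hφ : φ.comp ((pp x Z).appLE U.1 (ch x Z V U).1 (ch_le_pp x Z V U)).hom = δ.comp v := by
    have h1 := appLE_comp_ev w g.1 U.1 hgU O hOU'
    refine Eq.trans ?_ h1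
    change ((pp x Z).appLE U.1 (ch x Z V U).1 (ch_le_pp x Z V U) ≫ ψ.appLE (ch x Z V U).1 O hψO).hom = _
    rw [Scheme.Hom.appLE_comp_appLE]
    simp only [hψp]
  -- the points
  obtain ⟨a₀, ha₀, ha₀i⟩ := K496.FibOpen.isPullback_of_hilbPull x Z.1 h i hh
  have hpt : ∀ a, ⊤ ≤ (c a ≫ a₀) ⁻¹ᵁ (ch x Z V U).1 := by
    intro a y hy
    refine mem_ch x Z V U _ ?_ ?_
    · have h1 : qq x Z ((c a ≫ a₀) y) = (c a ≫ i) y := by
        rw [← ha₀i]
        rfl
      rw [h1]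
      exact hcV a hy
    · have h1 : pp x Z ((c a ≫ a₀) y) = ((c a ≫ a₀) ≫ pp x Z) y := rfl
      have h2 : (c a ≫ a₀) ≫ pp x Z = h.left := by
        rw [Category.assoc, ha₀.w, ← Category.assoc]
        change (c a ≫ i ≫ x) ≫ h.left = _
        rw [hc]
        exact Category.id_comp _
      rw [h1, h2]
      exact pt_mem h.left U.1 hU hy
  let p : Fin n → Γ(ZZ x Z, (ch x Z V U).1) →+* k := fun a => ev (c a ≫ a₀) (ch x Z V U).1 (hpt a)
  have hp : ∀ a, (p a).comp ((pp x Z).appLE U.1 (ch x Z V U).1 (ch_le_pp x Z V U)).hom =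
      ((D k).res : D k →+* k).comp v := by
    intro a
    have h2 : (c a ≫ a₀) ≫ pp x Z = Art.specRes (D k) ≫ g.1 := by
      rw [Category.assoc, ha₀.w, ← Category.assoc, g.2.2]
      change (c a ≫ i ≫ x) ≫ h.left = _
      rw [hc]
      exact Category.id_comp _
    have h3 : ⊤ ≤ ((c a ≫ a₀) ≫ pp x Z) ⁻¹ᵁ U.1 := fun y hy => ch_le_pp x Z V U (hpt a hy)
    have h4 : ⊤ ≤ (Art.specRes (D k) ≫ g.1) ⁻¹ᵁ U.1 := fun y _ => hgU (by trivial)
    have h5 := ev_comp (c a ≫ a₀) (pp x Z) (ch_le_pp x Z V U) (hpt a) h3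
    have h6 := ev_specMap ((D k).res : D k →+* k) g.1 U.1 hgU h4
    exact (h5.symm.trans (ev_congr h2 U.1 h3 h4)).trans h6
  have hpb : ∀ a (f : Γ(X, V.1)), p a (((qq x Z).appLE V.1 (ch x Z V U).1 (ch_le_qq x Z V U)).hom f) =
      ev (c a ≫ i) V.1 (hcV a) f := by
    intro a f
    have h3 : ⊤ ≤ ((c a ≫ a₀) ≫ qq x Z) ⁻¹ᵁ V.1 := fun y hy => ch_le_qq x Z V U (hpt a hy)
    have h4 : (c a ≫ a₀) ≫ qq x Z = c a ≫ i := by rw [Category.assoc, ha₀i]
    exact (ev_comp_apply (c a ≫ a₀) (qq x Z) (ch_le_qq x Z V U) (hpt a) h3 f).symm.trans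
      congr($(ev_congr h4 V.1 h3 (hcV a)) f)
  -- the algebra
  obtain ⟨γ, hγ, hγ'⟩ := K783.DetCore.core (str H.hom U.1) hft
    ((pp x Z).appLE U.1 (ch x Z V U).1 (ch_le_pp x Z V U)).hom hsm
    (fun j => ((qq x Z).appLE V.1 (ch x Z V U).1 (ch_le_qq x Z V U)).hom (b j))
    (rel_of_point x Z V U b hdeg) v ((D k).res : D k →+* k) (D k).res_surjective nilp_ker p hp φ δ hφ
  simp only [hpb] at hγ'
  obtain ⟨α, hα, hα'⟩ := exists_eq_smul (fun a j => ev (c a ≫ i) V.1 (hcV a) (b j)) hlin l₀ hl₀ (by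
    intro a
    have h1 := ev_sum x (c a ≫ i) (RingHom.id k) (by rw [Category.assoc, hc, specMap_id']) V.1 (hcV a) l₀ b
    have h2 : ev (c a ≫ i) V.1 (hcV a) (∑ j, str x V.1 (l₀ j) * b j) = 0 := by
      rw [ev_comp_apply (c a) i (V' := i ⁻¹ᵁ V.1) le_rfl (hcV a) (hcV a), ← Scheme.Hom.app_eq_appLE]
      exact (congrArg _ hl₀').trans (map_zero _)
    rw [h2] at h1
    exact h1.symm)
  -- the element of the ideal of the deformation
  have hφb : ∀ j, φ (((qq x Z).appLE V.1 (ch x Z V U).1 (ch_le_qq x Z V U)).hom (b j)) =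
      (z.1.subschemeι.app (prod x V).1).hom (pb x V (b j)) := by
    intro j
    have h1 : (qq x Z).appLE V.1 (ch x Z V U).1 (ch_le_qq x Z V U) ≫ ψ.appLE (ch x Z V U).1 O hψO =
        (pullback.fst x (specOver (D k))).app V.1 ≫ z.1.subschemeι.app (prod x V).1 := by
      rw [Scheme.Hom.appLE_comp_appLE, Scheme.Hom.app_eq_appLE, Scheme.Hom.app_eq_appLE]
      refine Eq.trans ?_ (Scheme.Hom.appLE_comp_appLE z.1.subschemeι (pullback.fst x (specOver (D k))) V.1
        (prod x V).1 O le_rfl le_rfl).symm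
      simp only [hψq]
    exact congr($(h1).hom (b j))
  have hδ : ∀ d : D k, δ d = (z.1.subschemeι.app (prod x V).1).hom (str (XApr x (D k)) (prod x V).1 d) := by
    intro d
    exact (app_str (RingHom.id (D k)) z.1.subschemeι (XApr x (D k)) w (by
      rw [CommRingCat.ofHom_id, Spec.map_id]
      exact (Category.comp_id _).symm) (prod x V).1 d).symm
  have hmem : pb x V (∑ j, str x V.1 (TrivSqZeroExt.fst (show TrivSqZeroExt k k from γ j)) * b j) +
        str (XApr x (D k)) (prod x V).1 (ep k) *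
          pb x V (∑ j, str x V.1 (TrivSqZeroExt.snd (show TrivSqZeroExt k k from γ j)) * b j) ∈
      z.1.ideal (prod x V) := by
    rw [← sum_dual, ← z.1.ker_subschemeι_app, RingHom.mem_ker, map_sum]
    refine Eq.trans (Finset.sum_congr rfl fun j _ => ?_) hγ
    rw [map_mul, ← hδ, ← hφb]
  have hfst : ∀ j, TrivSqZeroExt.fst (show TrivSqZeroExt k k from γ j) = α * l₀ j := fun j => (hγ' j).trans (hα' j)
  simp only [hfst] at hmem
  have hfac : ∑ j, str x V.1 (α * l₀ j) * b j = str x V.1 α * ∑ j, str x V.1 (l₀ j) * b j := by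
    rw [Finset.mul_sum]
    refine Finset.sum_congr rfl fun j _ => ?_
    rw [map_mul, mul_assoc]
  refine ⟨fun j => -(α⁻¹ * TrivSqZeroExt.snd (show TrivSqZeroExt k k from γ j)), fun s hs => ?_⟩
  have h1 := app_pullSec rfl I z θ hz V (∑ j, str x V.1 (α * l₀ j) * b j)
    (∑ j, str x V.1 (TrivSqZeroExt.snd (show TrivSqZeroExt k k from γ j)) * b j)
    (by rw [hfac, map_mul, hl₀', mul_zero]) hmem (str x V.1 α • s) (by
      rw [Scheme.Modules.Hom.app_smul, hs, hfac]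
      rfl)
  rw [pullSec_smul] at h1
  have h5 : θ.app (i ⁻¹ᵁ V.1) ((i.app V.1).hom (str x V.1 α) •
      (show Γ(Omega.conormal i, i ⁻¹ᵁ V.1) from pullSec i s)) =
      (i.app V.1).hom (str x V.1 α) • θ.app (i ⁻¹ᵁ V.1) (pullSec i s) := Scheme.Modules.Hom.app_smul _ _ _
  replace h1 := h5.symm.trans h1
  have h2 : (i.app V.1).hom (str x V.1 α⁻¹) * (i.app V.1).hom (str x V.1 α) = 1 := by
    rw [← map_mul, ← map_mul, inv_mul_cancel₀ hα, map_one, map_one]
  have h3 : θ.app (i ⁻¹ᵁ V.1) (pullSec i s) = (i.app V.1).hom (str x V.1 α⁻¹) •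
      ((i.app V.1).hom (str x V.1 α) • θ.app (i ⁻¹ᵁ V.1) (pullSec i s)) := by
    rw [smul_smul, h2, one_smul]
  rw [h3]
  refine (congrArg (fun t => (i.app V.1).hom (str x V.1 α⁻¹) • t) h1).trans ?_
  have h4 : ∑ j, str x V.1 (-(α⁻¹ * TrivSqZeroExt.snd (show TrivSqZeroExt k k from γ j))) * b j =
      str x V.1 α⁻¹ * -(∑ j, str x V.1 (TrivSqZeroExt.snd (show TrivSqZeroExt k k from γ j)) * b j) := by
    rw [mul_neg, Finset.mul_sum, ← Finset.sum_neg_distrib]
    refine Finset.sum_congr rfl fun j _ => ?_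
    rw [map_neg, map_mul]
    ring
  rw [h4, map_mul, map_neg]
  rfl

end K783.ChartDef
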