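import Groth.Agent.CalgB.SmoothReduced
import Mathlib.RingTheory.Jacobson.Ring
import Mathlib.LinearAlgebra.Matrix.Determinant.Basic
import Mathlib.FieldTheory.IsAlgClosed.Basic
import Mathlib.RingTheory.Smooth.Basic

/-!
# Determinants of points of a smooth family

`B` a smooth algebra over a reduced algebra `R` of finite type over an algebraically closed field `k`, `b_j ∈ B`:
if `det (z_i(b_j)) = 0` for all `k`-points `z_i : B → k` over the same point of `R`, then the same holds for points with
values in any `R`-algebra.
-/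

set_option autoImplicit false

universe u

open TensorProduct

namespace K783.DetAlg

section Prod

variable {R : Type u} [CommRing R] (B : Type u) [CommRing B] [Algebra R B] [Algebra.Smooth R B]

theorem smooth_tensor (T : Type u) [CommRing T] [Algebra R T] [Algebra.Smooth R T] : Algebra.Smooth R (B ⊗[R] T) :=
  Algebra.Smooth.comp R B (B ⊗[R] T)

/-- The product of `n` copies of `Spec B` over `R`. -/
theorem exists_prod (n : ℕ) :
    ∃ (T : Type u) (_ : CommRing T) (_ : Algebra R T) (_ : Algebra.Smooth R T) (ι : Fin n → B →ₐ[R] T),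
      ∀ (T' : Type u) [CommRing T'] [Algebra R T'] (φ : Fin n → B →ₐ[R] T'),
        ∃ ψ : T →ₐ[R] T', ∀ i, ψ.comp (ι i) = φ i := by
  induction n with
  | zero =>
    refine ⟨R, inferInstance, inferInstance, inferInstance, fun i => i.elim0, fun T' _ _ φ => ?_⟩
    exact ⟨Algebra.ofId R T', fun i => i.elim0⟩
  | succ n ih =>
    obtain ⟨T, h1, h2, h3, ι, hι⟩ := ih
    refine ⟨B ⊗[R] T, inferInstance, inferInstance, smooth_tensor B T,
      Fin.cons Algebra.TensorProduct.includeLeft fun i => Algebra.TensorProduct.includeRight.comp (ι i),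
      fun T' _ _ φ => ?_⟩
    obtain ⟨ψ, hψ⟩ := hι T' (fun i => φ i.succ)
    refine ⟨Algebra.TensorProduct.lift (φ 0) ψ fun _ _ => Commute.all _ _, fun i => ?_⟩
    refine Fin.cases ?_ (fun i => ?_) i
    · ext x
      simp
    · ext x
      simp only [Fin.cons_succ, AlgHom.coe_comp, Function.comp_apply, Algebra.TensorProduct.includeRight_apply,
        Algebra.TensorProduct.lift_tmul, map_one, one_mul]
      exact congr($(hψ i) x)

end Prod

section Jac

variable {k : Type u} [Field k] [IsAlgClosed k] (T : Type u) [CommRing T] [Algebra k T] [Algebra.FiniteType k T]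
  [IsReduced T]

/-- A function on a reduced scheme of finite type vanishing at all `k`-points is zero. -/
theorem eq_zero_of_points (t : T) (h : ∀ z : T →ₐ[k] k, z t = 0) : t = 0 := by
  have hJ : IsJacobsonRing T := isJacobsonRing_of_finiteType (A := k) (B := T)
  have hrad : (⊥ : Ideal T).IsRadical := by
    intro x hx
    exact (IsReduced.eq_zero x (by simpa [nilradical, mem_nilradical] using hx))
  have h0 : (⊥ : Ideal T).jacobson = ⊥ := IsJacobsonRing.out' _ hrad
  have h1 : t ∈ (⊥ : Ideal T).jacobson := by
    rw [Ideal.jacobson, Ideal.mem_sInf]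
    rintro M ⟨-, hM⟩
    let _ := Ideal.Quotient.field M
    have h2 : Algebra.FiniteType k (T ⧸ M) := inferInstance
    have h3 : Module.Finite k (T ⧸ M) := finite_of_finite_type_of_isJacobsonRing k (T ⧸ M)
    have h4 : Function.Bijective (algebraMap k (T ⧸ M)) := IsAlgClosed.algebraMap_bijective_of_isIntegral
    let e : k ≃ₐ[k] T ⧸ M := AlgEquiv.ofBijective (Algebra.ofId k (T ⧸ M)) h4
    have h5 := h (e.symm.toAlgHom.comp (Ideal.Quotient.mkₐ k M))
    have h6 : Ideal.Quotient.mk M t = 0 := by
      apply e.symm.injective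
      rw [map_zero]
      exact h5
    exact Ideal.Quotient.eq_zero_iff_mem.1 h6
  rw [h0] at h1
  exact h1

end Jac

section Main

variable {k : Type u} [Field k] [IsAlgClosed k] {R : Type u} [CommRing R] [Algebra k R] [Algebra.FiniteType k R]
  [IsReduced R] {B : Type u} [CommRing B] [Algebra R B] [Algebra.Smooth R B]

/-- **Determinants of points.** -/
theorem det_eq_zero {n : ℕ} (b : Fin n → B)
    (h : ∀ (u : R →+* k), u.comp (algebraMap k R) = RingHom.id k → ∀ (z : Fin n → B →+* k),
      (∀ i, (z i).comp (algebraMap R B) = u) → Matrix.det (Matrix.of fun i j => z i (b j)) = 0)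
    {T' : Type u} [CommRing T'] [Algebra R T'] (φ : Fin n → B →ₐ[R] T') :
    Matrix.det (Matrix.of fun i j => φ i (b j)) = 0 := by
  obtain ⟨T, h1, h2, h3, ι, hι⟩ := exists_prod (R := R) B n
  obtain ⟨ψ, hψ⟩ := hι T' φ
  let _ : Algebra k T := ((algebraMap R T).comp (algebraMap k R)).toAlgebra
  have : IsScalarTower k R T := IsScalarTower.of_algebraMap_eq fun _ => rfl
  have hft : Algebra.FiniteType R T := inferInstance
  have hft' : Algebra.FiniteType k T := Algebra.FiniteType.trans (S := R) inferInstance hft
  have hred : IsReduced T := Groth.Agent.CalgB.SmoothReduced.isReduced_of_smooth R T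
  have key : Matrix.det (Matrix.of fun i j => ι i (b j)) = 0 := by
    refine eq_zero_of_points (k := k) T _ fun z => ?_
    have h4 := h ((z : T →+* k).comp (algebraMap R T)) (by
      ext c
      exact z.commutes c) (fun i => (z : T →+* k).comp (ι i : B →+* T)) (fun i => by
      ext r
      change z (ι i (algebraMap R B r)) = z (algebraMap R T r)
      rw [(ι i).commutes])
    have h5 := AlgHom.map_det z (Matrix.of fun i j => ι i (b j))
    rw [h5, ← h4]
    rfl
  have h6 := AlgHom.map_det ψ (Matrix.of fun i j => ι i (b j))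
  rw [key, map_zero] at h6
  rw [h6]
  congr 1
  ext i j
  exact congr($((hψ i).symm) (b j))

end Main

end K783.DetAlg
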