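import Groth.Agent.DefT.K693.IdealFam

/-!
# Evaluation of functions at points with values in a ring
-/

set_option autoImplicit false

universe u

open CategoryTheory CategoryTheory.Limits AlgebraicGeometry Opposite TopologicalSpace

namespace K783.Ev

open K693.IdealFam

variable {X Y : Scheme.{u}} {T T' : Type u} [CommRing T] [CommRing T']

/-- Evaluation of functions at a `T`-valued point. -/
noncomputable def ev (t : Spec (CommRingCat.of T) ⟶ X) (V : X.Opens) (h : ⊤ ≤ t ⁻¹ᵁ V) : Γ(X, V) →+* T :=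
  (t.appLE V ⊤ h ≫ (Scheme.ΓSpecIso (CommRingCat.of T)).hom).hom

theorem ev_comp (t : Spec (CommRingCat.of T) ⟶ X) (g : X ⟶ Y) {V : Y.Opens} {V' : X.Opens} (e : V' ≤ g ⁻¹ᵁ V)
    (h : ⊤ ≤ t ⁻¹ᵁ V') (h' : ⊤ ≤ (t ≫ g) ⁻¹ᵁ V) : ev (t ≫ g) V h' = (ev t V' h).comp (g.appLE V V' e).hom := by
  rw [ev, ev, ← CommRingCat.hom_comp, ← Category.assoc, Scheme.Hom.appLE_comp_appLE]

theorem ev_comp_apply (t : Spec (CommRingCat.of T) ⟶ X) (g : X ⟶ Y) {V : Y.Opens} {V' : X.Opens} (e : V' ≤ g ⁻¹ᵁ V)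
    (h : ⊤ ≤ t ⁻¹ᵁ V') (h' : ⊤ ≤ (t ≫ g) ⁻¹ᵁ V) (f : Γ(Y, V)) :
    ev (t ≫ g) V h' f = ev t V' h ((g.appLE V V' e).hom f) := by
  rw [ev_comp t g e h]
  rfl

theorem ev_congr {t t' : Spec (CommRingCat.of T) ⟶ X} (htt : t = t') (V : X.Opens) (h : ⊤ ≤ t ⁻¹ᵁ V)
    (h' : ⊤ ≤ t' ⁻¹ᵁ V) : ev t V h = ev t' V h' := by
  subst htt
  rfl

theorem ev_specMap (φ : T →+* T') (t : Spec (CommRingCat.of T) ⟶ X) (V : X.Opens) (h : ⊤ ≤ t ⁻¹ᵁ V)
    (h' : ⊤ ≤ (Spec.map (CommRingCat.ofHom φ) ≫ t) ⁻¹ᵁ V) :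
    ev (Spec.map (CommRingCat.ofHom φ) ≫ t) V h' = φ.comp (ev t V h) := by
  have h1 := Scheme.ΓSpecIso_naturality (CommRingCat.ofHom φ)
  have h2 : (Spec.map (CommRingCat.ofHom φ) ≫ t).appLE V ⊤ h' =
      t.appLE V ⊤ h ≫ (Spec.map (CommRingCat.ofHom φ)).appTop := by
    rw [Scheme.Hom.appTop, Scheme.Hom.app_eq_appLE]
    exact (Scheme.Hom.appLE_comp_appLE (Spec.map (CommRingCat.ofHom φ)) t V ⊤ ⊤ h le_top).symm
  rw [ev, h2, Category.assoc, h1, ← Category.assoc, CommRingCat.hom_comp]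
  rfl

/-- A morphism factoring through a `T`-valued point. -/
theorem appLE_comp_ev (w : X ⟶ Spec (CommRingCat.of T)) (t : Spec (CommRingCat.of T) ⟶ Y) (V : Y.Opens)
    (h : ⊤ ≤ t ⁻¹ᵁ V) (O : X.Opens) (e : O ≤ (w ≫ t) ⁻¹ᵁ V) :
    ((w ≫ t).appLE V O e).hom = (str w O).comp (ev t V h) := by
  rw [ev, str, ← CommRingCat.hom_comp, Category.assoc, Iso.hom_inv_id_assoc, Scheme.Hom.appLE_comp_appLE]

/-- Points of an affine open. -/
theorem exists_point {V : X.Opens} (hV : IsAffineOpen V) (ζ : Γ(X, V) →+* T) :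
    ∃ (t : Spec (CommRingCat.of T) ⟶ X) (h : ⊤ ≤ t ⁻¹ᵁ V), ev t V h = ζ := by
  have hr : ⊤ ≤ (Spec.map (CommRingCat.ofHom ζ) ≫ hV.fromSpec) ⁻¹ᵁ V := by
    intro y _
    have h1 : hV.fromSpec (Spec.map (CommRingCat.ofHom ζ) y) ∈ Set.range hV.fromSpec := ⟨_, rfl⟩
    rw [hV.range_fromSpec] at h1
    exact h1
  have hr' : ⊤ ≤ hV.fromSpec ⁻¹ᵁ V := by
    intro y _
    have h1 : hV.fromSpec y ∈ Set.range hV.fromSpec := ⟨_, rfl⟩
    rw [hV.range_fromSpec] at h1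
    exact h1
  refine ⟨Spec.map (CommRingCat.ofHom ζ) ≫ hV.fromSpec, hr, ?_⟩
  rw [ev_specMap ζ hV.fromSpec V hr']
  have h2 : ev hV.fromSpec V hr' = RingHom.id _ := by
    have h3 : hV.fromSpec.appLE V ⊤ hr' = (Scheme.ΓSpecIso Γ(X, V)).inv := by
      have h4 := hV.fromSpec_app_self
      rw [Scheme.Hom.appLE, h4, Category.assoc, ← Functor.map_comp]
      have h5 : (eqToHom hV.fromSpec_preimage_self).op ≫ (homOfLE hr').op =
          𝟙 (op (⊤ : (Spec Γ(X, V)).Opens)) := Subsingleton.elim _ _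
      rw [h5, CategoryTheory.Functor.map_id, Category.comp_id]
    rw [ev, h3]
    exact congrArg CommRingCat.Hom.hom (Iso.inv_hom_id (Scheme.ΓSpecIso Γ(X, V)))
  rw [h2, RingHom.comp_id]

theorem ev_ext {V : X.Opens} (hV : IsAffineOpen V) {t t' : Spec (CommRingCat.of T) ⟶ X} (h : ⊤ ≤ t ⁻¹ᵁ V)
    (h' : ⊤ ≤ t' ⁻¹ᵁ V) (he : ev t V h = ev t' V h') : t = t' := by
  have h1 : t.appLE V ⊤ h = t'.appLE V ⊤ h' := by
    rw [← cancel_mono (Scheme.ΓSpecIso (CommRingCat.of T)).hom]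
    exact CommRingCat.hom_ext he
  have h2 := hV.SpecMap_appLE_fromSpec t (isAffineOpen_top (Spec (CommRingCat.of T))) h
  have h3 := hV.SpecMap_appLE_fromSpec t' (isAffineOpen_top (Spec (CommRingCat.of T))) h'
  rw [h1, h3] at h2
  rw [IsAffineOpen.fromSpec_top] at h2
  exact ((cancel_epi _).1 h2).symm

/-- The structure map and evaluation. -/
theorem ev_str (x : X ⟶ Spec (CommRingCat.of T')) (t : Spec (CommRingCat.of T) ⟶ X) (φ : T' →+* T)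
    (w : t ≫ x = Spec.map (CommRingCat.ofHom φ)) (V : X.Opens) (h : ⊤ ≤ t ⁻¹ᵁ V) (c : T') :
    ev t V h (str x V c) = φ c := by
  have h1 : (x.appLE ⊤ V le_top ≫ t.appLE V ⊤ h) = (Spec.map (CommRingCat.ofHom φ)).appTop := by
    rw [Scheme.Hom.appLE_comp_appLE, Scheme.Hom.appTop, Scheme.Hom.app_eq_appLE]
    simp only [w]
    rfl
  have h2 := Scheme.ΓSpecIso_naturality (CommRingCat.ofHom φ)
  have h3 : (Scheme.ΓSpecIso (CommRingCat.of T')).inv ≫ (x.appLE ⊤ V le_top ≫ t.appLE V ⊤ h) ≫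
      (Scheme.ΓSpecIso (CommRingCat.of T)).hom = CommRingCat.ofHom φ := by
    rw [h1, h2, Iso.inv_hom_id_assoc]
  have h4 := congr($(h3).hom c)
  exact h4

end K783.Ev
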