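import Groth.Agent.Fano.K783.ThetaLin
import Groth.Agent.Fano.K419.ThetaMap

/-!
# Degenerate elliptic quintics on a cubic threefold: sections of the normal sheaf (G8b of S16528), all charts at once
-/

set_option autoImplicit false

universe u

open CategoryTheory CategoryTheory.Limits AlgebraicGeometry Opposite TopologicalSpace

namespace K783.ThetaAll

open LefPen K693.IdealFam K783.Ev K783.ChartDef K715.Geo K783.LinPts K783.DegOpen
open Groth.Agent Groth.Agent.Lefpen.H705.HypIdeal Groth.Agent.Lefpen.H705.SecIdeal Groth.Agent.Lefpen.H704.RelLocus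
open Groth.Agent.Lefpen.H705.ChartPoly Groth.Agent.Fano.K931.Vanish Groth.Agent.Fano.K931.Saturate
open K330.FormSec Groth.Agent.Fdesc.LocGen
open Groth.Agent.Fano.K714.Rat Groth.Agent.Fano.K714.Quart Groth.Agent.Fano.K715.Quint K255.Pf

section Glue

variable {n : ℕ} {k : Type u} [Field k]

/-- Change of chart. -/
theorem rho_trans (m m₀ : Fin (n + 1)) {U : (CohB1.ProjSpace n k).Opens} (hm : U ≤ chart n k m)
    (h₀ : U ≤ chart n k m₀) {d : ℕ} (G : Form n k d) :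
    rho m hm G.1 = ores hm (ratio m m₀) ^ d * rho m₀ h₀ G.1 := by
  rw [rho_form, rho_form]
  exact ores_dehom G m m₀ U hm h₀

theorem idealModι_injective {X : Scheme.{u}} (I : X.IdealSheafData) (U : X.Opens) :
    Function.Injective ((ClSub.idealModι I).app U) := by
  have h1 : Mono ((Scheme.Modules.toPresheaf X).map (ClSub.idealModι I)) := inferInstance
  have h2 : Mono (((Scheme.Modules.toPresheaf X).map (ClSub.idealModι I)).app (op U)) := inferInstance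
  exact (AddCommGrpCat.mono_iff_injective _).1 h2

theorem app_ores {X Y : Scheme.{u}} (e : X ⟶ Y) {U V : Y.Opens} (h : V ≤ U) (a : Γ(Y, U)) :
    ores (e.preimage_mono h) ((e.app U).hom a) = (e.app V).hom (ores h a) :=
  (congr($(e.naturality (homOfLE h).op).hom a)).symm

theorem glue {C X : Scheme.{u}} [IsIntegral C] (i : C ⟶ X) (e : X ⟶ CohB1.ProjSpace n k) [QuasiCompact i]
    [QuasiCompact e] {d : ℕ} (G l : Form n k d) (h : hypIdeal G ≤ (i ≫ e).ker)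
    (θ : Omega.conormal i ⟶ Coh.structureModule C)
    (m₀ : Fin (n + 1)) (hm₀ : (((i ≫ e) ⁻¹ᵁ chart n k m₀ : C.Opens) : Set C).Nonempty)
    (h₀ : ∀ s : Γ(ClSub.idealMod i.ker, e ⁻¹ᵁ chart n k m₀),
      (ClSub.idealModι i.ker).app (e ⁻¹ᵁ chart n k m₀) s =
        ofFun ((e.app (chart n k m₀)).hom (rho m₀ le_rfl G.1)) →
      θ.app (i ⁻¹ᵁ e ⁻¹ᵁ chart n k m₀) (pullSec i s) =
        ofFun ((i.app (e ⁻¹ᵁ chart n k m₀)).hom ((e.app (chart n k m₀)).hom (rho m₀ le_rfl l.1))))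
    (m : Fin (n + 1)) (s : Γ(ClSub.idealMod i.ker, e ⁻¹ᵁ chart n k m))
    (hs : (ClSub.idealModι i.ker).app (e ⁻¹ᵁ chart n k m) s =
      ofFun ((e.app (chart n k m)).hom (rho m le_rfl G.1))) :
    θ.app (i ⁻¹ᵁ e ⁻¹ᵁ chart n k m) (pullSec i s) =
      ofFun ((i.app (e ⁻¹ᵁ chart n k m)).hom ((e.app (chart n k m)).hom (rho m le_rfl l.1))) := by
  rcases Set.eq_empty_or_nonempty (((i ≫ e) ⁻¹ᵁ chart n k m : C.Opens) : Set C) with hi | hi
  · have hb : i ⁻¹ᵁ e ⁻¹ᵁ chart n k m = ⊥ := by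
      ext1
      simpa using hi
    have h1 : Subsingleton Γ(C, i ⁻¹ᵁ e ⁻¹ᵁ chart n k m) := by
      rw [hb]
      infer_instance
    have h2 : Subsingleton Γ(Coh.structureModule C, i ⁻¹ᵁ e ⁻¹ᵁ chart n k m) := h1
    exact Subsingleton.elim _ _
  · let U : (CohB1.ProjSpace n k).Opens := chart n k m ⊓ chart n k m₀
    have hUm : U ≤ chart n k m := inf_le_left
    have hU0 : U ≤ chart n k m₀ := inf_le_right
    obtain ⟨s₀, hs₀⟩ := K419.ThetaMap.exists_c i e G h m₀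
    have hX : e ⁻¹ᵁ U ≤ e ⁻¹ᵁ chart n k m := e.preimage_mono hUm
    have hX0 : e ⁻¹ᵁ U ≤ e ⁻¹ᵁ chart n k m₀ := e.preimage_mono hU0
    have hC : i ⁻¹ᵁ e ⁻¹ᵁ U ≤ i ⁻¹ᵁ e ⁻¹ᵁ chart n k m := i.preimage_mono hX
    have hC0 : i ⁻¹ᵁ e ⁻¹ᵁ U ≤ i ⁻¹ᵁ e ⁻¹ᵁ chart n k m₀ := i.preimage_mono hX0
    have hne : ((i ⁻¹ᵁ e ⁻¹ᵁ U : C.Opens) : Set C).Nonempty :=
      nonempty_preirreducible_inter ((i ≫ e) ⁻¹ᵁ chart n k m).2 ((i ≫ e) ⁻¹ᵁ chart n k m₀).2 hi hm₀
    let u : Γ(X, e ⁻¹ᵁ U) := (e.app U).hom (ores hUm (ratio m m₀) ^ d)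
    have h1 : res _ hX s = u • res _ hX0 s₀ := by
      apply idealModι_injective
      have h4 : (ClSub.idealModι i.ker).app (e ⁻¹ᵁ chart n k m₀) s₀ =
          ofFun ((e.app (chart n k m₀)).hom (rho m₀ le_rfl G.1)) := hs₀
      rw [app_res, hs, res_ofFun, Scheme.Modules.Hom.app_smul, app_res, h4, res_ofFun, app_ores e hUm,
        app_ores e hU0, ores_rho, ores_rho, rho_trans m m₀ hUm hU0 G, map_mul]
      rfl
    have h2 : Nonempty ((i ⁻¹ᵁ e ⁻¹ᵁ U : C.Opens)) := hne.to_subtype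
    have hinj := map_injective_of_isIntegral C (homOfLE hC)
    have key : ores hC (ofFun.symm (θ.app (i ⁻¹ᵁ e ⁻¹ᵁ chart n k m) (pullSec i s))) =
        ores hC ((i.app (e ⁻¹ᵁ chart n k m)).hom ((e.app (chart n k m)).hom (rho m le_rfl l.1))) := by
      have h4 : res (Coh.structureModule C) hC (θ.app (i ⁻¹ᵁ e ⁻¹ᵁ chart n k m) (pullSec i s)) =
          (i.app (e ⁻¹ᵁ U)).hom u •
            res (Coh.structureModule C) hC0 (θ.app (i ⁻¹ᵁ e ⁻¹ᵁ chart n k m₀) (pullSec i s₀)) := by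
        rw [← app_res, ← app_res]
        have h5 : res (Omega.conormal i) hC (pullSec i s) = pullSec i (res _ hX s) := res_pullSec i hX s
        have h6 : res (Omega.conormal i) hC0 (pullSec i s₀) = pullSec i (res _ hX0 s₀) := res_pullSec i hX0 s₀
        have h7 : pullSec i (u • res _ hX0 s₀) =
            ((i.app (e ⁻¹ᵁ U)).hom u • (pullSec i (res _ hX0 s₀) : Γ(Omega.conormal i, i ⁻¹ᵁ e ⁻¹ᵁ U)) :
              Γ(Omega.conormal i, i ⁻¹ᵁ e ⁻¹ᵁ U)) := pullSec_smul i u _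
        exact (congrArg (fun z => θ.app (i ⁻¹ᵁ e ⁻¹ᵁ U) z)
          (h5.trans ((congrArg (fun z => pullSec i z) h1).trans h7))).trans
          ((Scheme.Modules.Hom.app_smul θ _ _).trans (congrArg (fun z => (i.app (e ⁻¹ᵁ U)).hom u •
            θ.app (i ⁻¹ᵁ e ⁻¹ᵁ U) z) h6.symm))
      rw [h₀ s₀ hs₀, res_ofFun, app_ores i hX0, app_ores e hU0, ores_rho] at h4
      rw [app_ores i hX, app_ores e hUm, ores_rho, rho_trans m m₀ hUm hU0 l, map_mul, map_mul]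
      exact h4
    have h3 := hinj key
    exact congrArg ofFun h3

end Glue

variable {k : Type u} [Field k] [IsAlgClosed k] [CharZero k]

/-- **G8b**, one linear form for all the charts. -/
theorem theta_linear_all (f : LefPen.Form 4 k 3) (hf : f ≠ 0) [Smooth (ps f)]
    (H : Over (Spec (CommRingCat.of k))) (Z : FGA.HilbSet (ps f) H) (hH : FGA.HilbRepresentedBy (ps f) H Z)
    (C : Scheme.{u}) (p : C ⟶ Spec (CommRingCat.of k)) (i : C ⟶ Xf f) (hcl : IsClosedImmersion i)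
    (hip : i ≫ ps f = p) (hsm : Smooth p) (hpr : IsProper p) (hint : IsIntegral C)
    (hdim : topologicalKrullDim C = 1) (hg : @Curv2.genus k _ C ⟨p⟩ = 1)
    (hdeg : @Curv2.deg k _ C ⟨p⟩ ((Scheme.Modules.pullback (i ≫ emb f)).obj
      (Twist.twistProjSpace 4 k 1)) 1 = 5)
    (h : pt k ⟶ H) (hh : FGA.hilbPull (ps f) h Z.1 = i.ker.comap (pullback.fst (ps f) (pt k).hom))
    (hreg : IsRegularLocalRing (H.left.presheaf.stalk (h.left.base (IsLocalRing.closedPoint k))))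
    (A : H.left.Opens) (hA : h.left.base (IsLocalRing.closedPoint k) ∈ A)
    (hno : ¬ ∃ y ∈ A, y ∈ curveSetQ f H Z 1 5 NonDeg)
    (l₀ : LefPen.Form 4 k 1) (hl₀ : l₀ ≠ 0) (hl₀' : LefPen.hypIdeal l₀ ≤ (i ≫ emb f).ker)
    (θ : Omega.conormal i ⟶ Coh.structureModule C) :
    ∃ l₁ : LefPen.Form 4 k 1, ∀ (m : Fin 5) (s : Γ(ClSub.idealMod i.ker, emb f ⁻¹ᵁ chart 4 k m)),
      (ClSub.idealModι i.ker).app (emb f ⁻¹ᵁ chart 4 k m) s =
        ofFun (((emb f).app (chart 4 k m)).hom (rho m le_rfl l₀.1)) →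
      θ.app (i ⁻¹ᵁ emb f ⁻¹ᵁ chart 4 k m) (pullSec i s) =
        ofFun ((i.app (emb f ⁻¹ᵁ chart 4 k m)).hom (((emb f).app (chart 4 k m)).hom (rho m le_rfl l₁.1))) := by
  obtain ⟨m₀, hm₀⟩ := exists_nonempty (i ≫ emb f)
  obtain ⟨l₁, hl₁⟩ := ThetaLin.theta_linear f hf H Z hH C p i hcl hip hsm hpr hint hdim hg hdeg h hh hreg A hA hno
    l₀ hl₀ hl₀' m₀ hm₀ θ
  exact ⟨l₁, fun m s hs => glue i (emb f) l₀ l₁ hl₀' θ m₀ hm₀ hl₁ m s hs⟩

end K783.ThetaAll
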